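import Cfsg.Agent.Lib.PGroups.Harada.Meet
import Cfsg.Agent.Lib.PGroups.MacWilliams.Main

/-!
# Harada's theorem on self-centralizing subgroups of order eight
-/

set_option autoImplicit false
set_option linter.unusedSectionVars false
set_option linter.style.haveILetI false

namespace CfsgLib.PGroups.Harada

open Subgroup
open scoped commutatorElement

variable {S : Type*} [Group S] [Finite S] {H : Type*} [Group H] [Finite H]

namespace Eight

variable (F : Eight S)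

theorem sup_comap_C_le (hS : IsPGroup 2 S) (hH : IsPGroup 2 H) (ι : H →* S) :
    (F.C.comap ι ⊔ frattini H).index ≤ 4 :=
  (sup_index_le hH ((QuotientGroup.mk' F.C).comp ι) _ (by
    rw [← MonoidHom.comap_ker, QuotientGroup.ker_mk'])).trans
    (F.index_stab hS _)

theorem commutator_mem_comap (ι : H →* S) {m : H} (hm : m ∈ F.C.comap ι) (h : H) :
    ⁅h, m⁆ ∈ F.C.comap ι :=
  mul_mem ((inferInstance : (F.C.comap ι).Normal).conj_mem m hm h) (inv_mem hm)

theorem commutator_mem_frattini (hH : IsPGroup 2 H) (h m : H) : ⁅h, m⁆ ∈ frattini H := by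
  haveI : Fact (Nat.Prime 2) := ⟨Nat.prime_two⟩
  exact commutator_le_frattini hH (commutator_mem_commutator (mem_top _) (mem_top _))

/-- The case where `N` is its own centralizer. -/
theorem index_le_of_C_le (hS : IsPGroup 2 S) (hC : F.C ≤ F.N) (ι : H →* S)
    (hι : Function.Injective ι) : (frattini H).index ≤ 16 := by
  have hH : IsPGroup 2 H := hS.of_injective ι hι
  set K := F.C.comap ι
  haveI : K.Normal := inferInstance
  rw [index_frattini_eq K]
  have hsup : (K ⊔ frattini H).index ≤ 4 := F.sup_comap_C_le hS hH ι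
  have hKc : Nat.card K ≤ 8 := by
    rw [← F.card]
    exact Nat.card_le_card_of_injective (fun k => (⟨ι k, hC k.2⟩ : F.N))
      fun u v huv => Subtype.ext (hι (congrArg Subtype.val huv))
  have hrel := relIndex_le_card (H := H) K
  by_cases hK4 : Nat.card K ≤ 4
  · exact (Nat.mul_le_mul (hrel.trans hK4) hsup).trans (by norm_num)
  by_cases hKt : K = ⊤
  · rw [← index_frattini_eq K]
    refine index_frattini_le_card.trans ?_
    rw [← Subgroup.card_top (G := H), ← hKt]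
    omega
  obtain ⟨h, -, hh⟩ := SetLike.exists_of_lt (lt_top_iff_ne_top.2 hKt)
  -- `ι K = N`, and `h` moves an element
  have heq : K.map ι = F.N := eq_of_lt_two_mul
    (fun y hy => by obtain ⟨k, hk, rfl⟩ := hy; exact hC hk) (k := 2)
    (by rw [F.card]; rfl) (by
      rw [Nat.card_congr (Subgroup.equivMapOfInjective K ι hι).symm.toEquiv]
      exact not_le.1 hK4)
  obtain ⟨m, hm, hm1⟩ : ∃ m ∈ K, ⁅h, m⁆ ≠ 1 := by
    by_contra hcon
    simp only [not_exists, not_and, not_not] at hcon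
    refine hh (show ι h ∈ F.C from F.mem_C.2 fun e he => ?_)
    obtain ⟨m, hm, rfl⟩ : e ∈ K.map ι := heq.symm ▸ he
    rw [← map_mul, ← map_mul, commutatorElement_eq_one_iff_mul_comm.1 (hcon m hm)]
  have := two_mul_relIndex_le K (F.commutator_mem_comap ι hm h) hm1 (commutator_mem_frattini hH h m)
  exact (Nat.mul_le_mul (by omega : (frattini H).relIndex K ≤ 4) hsup).trans (by norm_num)

end Eight

namespace Meet

variable (M : Meet S)

/-- Commutation with `a` inside `C`, modulo `N`. -/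
def X : Subgroup S :=
  M.F.C ⊓ (centralizer ({(M.a : S ⧸ M.F.N)} : Set (S ⧸ M.F.N))).comap (QuotientGroup.mk' M.F.N)

theorem mem_X {u : S} : u ∈ M.X ↔ u ∈ M.F.C ∧ ⁅M.a, u⁆ ∈ M.F.N := by
  show u ∈ M.F.C ∧ (u : S ⧸ M.F.N) ∈ centralizer ({(M.a : S ⧸ M.F.N)} : Set (S ⧸ M.F.N)) ↔ _
  refine and_congr_right fun _ => ?_
  rw [mem_centralizer_singleton_iff, ← QuotientGroup.eq_one_iff]
  show _ ↔ QuotientGroup.mk' M.F.N ⁅M.a, u⁆ = 1
  rw [map_commutatorElement, commutatorElement_eq_one_iff_mul_comm]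
  exact eq_comm

/-- With an element outside `A` commuting with `a`: the plane, its central element, and `C`. -/
theorem structure_of_commute (hS : IsPGroup 2 S) {s : S} (hs : Commute s M.a) (hsA : s ∉ M.T.A) :
    ∃ d : S, d ∈ M.D ∧ d ≠ 1 ∧ (∀ g : S, g * d * g⁻¹ = d) ∧
      ⁅M.a, M.x⁆ ≠ 1 ∧ ⁅M.a, M.x⁆ ≠ d ∧
      (∀ e ∈ M.F.N, (e ∈ M.D ∧ ⁅M.a, e⁆ = 1) ∨ (e ∉ M.D ∧ ⁅M.a, e⁆ = d)) ∧
      ∀ c ∈ M.F.C, c ∈ M.F.N ∨ c * M.x ∈ M.F.N := by
  haveI : Fact (Nat.Prime 2) := ⟨Nat.prime_two⟩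
  obtain ⟨d, P, hdN, hd1, hdc, -, -, -, -⟩ := M.F.exists_flag hS
  obtain ⟨t, htD, ht1, ht⟩ := M.exists_t
  have hdD : d ∈ M.D := M.mem_D_of_mem_C (M.F.N_le_C hdN) (mul_inv_eq_iff_eq_mul.1 (hdc M.a))
  have hn := M.value_mem M.hx
  have hn1 : ⁅M.a, M.x⁆ ≠ 1 := fun h => M.hxN (M.value_x_ne ht _ M.hxC (Or.inl h))
  have hnt : t ≠ ⁅M.a, M.x⁆ := fun h => M.hxN (M.value_x_ne ht _ M.hxC (Or.inr h.symm))
  have hsa : s * M.a * s⁻¹ = M.a := by rw [hs.eq, mul_inv_cancel_right]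
  have hsv : ∀ u : S, s * ⁅M.a, u⁆ * s⁻¹ = ⁅M.a, s * u * s⁻¹⁆ := fun u => by
    conv_rhs => arg 1; rw [← hsa]
    simp only [commutatorElement_def]; group
  have hsC : ∀ u ∈ M.F.C, s * u * s⁻¹ ∈ M.F.C := fun u hu =>
    (inferInstance : M.F.C.Normal).conj_mem u hu s
  have hsD : ∀ u ∈ M.D, s * u * s⁻¹ ∈ M.D := fun u hu => by
    refine M.mem_D_of_mem_C (M.F.N_le_C (M.F.conj_mem s hu.2))
      (commutatorElement_eq_one_iff_mul_comm.1 ?_)
    rw [← hsv, commutatorElement_eq_one_iff_mul_comm.2 (M.D_fixed hu), mul_one, mul_inv_cancel]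
  -- `s` does not centralize the plane
  have hmoveD : ¬ ∀ u ∈ M.D, s * u * s⁻¹ = u := fun h =>
    hsA (M.mem_A (fun u hu => (mul_inv_eq_iff_eq_mul.1 (h u hu)).symm) hs.symm.eq)
  have hst : s * t * s⁻¹ = t := by
    obtain ⟨e, he, heD⟩ := M.F.exists_notMem (X := M.D) (by
      show Nat.card ↥(M.T.A ⊓ M.F.N) < 8
      rw [M.card]; norm_num)
    have hte : ⁅M.a, e⁆ = t := ((ht e he).resolve_left fun h => heD h.1).2
    rw [← hte, hsv]
    rcases ht _ (M.F.conj_mem s he) with ⟨h, -⟩ | ⟨-, h⟩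
    · refine absurd ?_ ht1
      have h1 := hsv e
      rw [hte, commutatorElement_eq_one_iff_mul_comm.2 (M.D_fixed h), conj_eq_one_iff] at h1
      exact h1
    · rw [h, hte]
  have htd : t = d := by
    by_contra hne
    refine hmoveD fun u hu => ?_
    rcases four_mem (X := M.D) M.card hdD htD hd1 ht1 (Ne.symm hne) (M.F.sq d hdN)
      (M.F.sq t htD.2) u hu with rfl | rfl | rfl | rfl
    · group
    · exact hdc s
    · exact hst
    · rw [← conj_mul, hdc s, hst]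
  subst htd
  have hD4 := four_mem (X := M.D) M.card htD hn ht1 hn1 hnt (M.F.sq _ htD.2) (M.F.sq _ hn.2)
  refine ⟨t, htD, ht1, hdc, hn1, Ne.symm hnt, ht, ?_⟩
  -- `C = N ∪ N x`
  by_contra hcon
  simp only [not_forall, not_or] at hcon
  obtain ⟨c, hc, hc1, hc2⟩ := hcon
  have hne : ¬ M.F.C ≤ M.X := fun h => by
    rcases M.fixed_cases hc (M.mem_X.1 (h hc)).2 with h' | h'
    exacts [hc1 h', hc2 h']
  obtain ⟨p, hpC, hpX, hρX⟩ := exists_commutator_mem hS (w := M.a) (fun r hr =>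
    mul_mem ((inferInstance : M.F.C.Normal).conj_mem r hr M.a) (inv_mem hr)) hne
  obtain ⟨hρC, hρv⟩ := M.mem_X.1 hρX
  set ρ := ⁅M.a, p⁆ with hρ
  have hρN : ρ ∉ M.F.N := fun h => hpX (M.mem_X.2 ⟨hpC, h⟩)
  set ν := ⁅M.a, ρ⁆ with hν
  have hν1 : ν ≠ 1 := fun h => hρN (M.value_x_ne ht _ hρC (Or.inl h))
  have hνt : ν ≠ t := fun h => hρN (M.value_x_ne ht _ hρC (Or.inr h))
  have hνD : ν ∈ M.D := M.value_mem hρv
  set σ := s * ρ * s⁻¹ with hσ
  have hσC : σ ∈ M.F.C := hsC ρ hρC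
  have hσv : ⁅M.a, σ⁆ ∈ M.F.N := by
    rw [hσ, ← hsv]
    exact M.F.conj_mem s hρv
  have hy : ρ⁻¹ * σ ∈ M.F.N := by
    rcases M.fixed_cases hρC hρv with h | h
    · exact absurd h hρN
    rcases M.fixed_cases hσC hσv with h' | h'
    · refine absurd ?_ hρN
      have := M.F.normal.conj_mem _ h' s⁻¹
      rwa [hσ, show s⁻¹ * (s * ρ * s⁻¹) * s⁻¹⁻¹ = ρ by group] at this
    · have := M.F.normal.conj_mem _ (mul_mem (inv_mem h) h') M.x
      rwa [show M.x * ((ρ * M.x)⁻¹ * (σ * M.x)) * M.x⁻¹ = ρ⁻¹ * σ by group] at this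
  have hyD : ρ⁻¹ * σ ∈ M.D := by
    have hu : ⁅M.a, p⁻¹ * (s * p * s⁻¹)⁆ = ρ⁻¹ * σ := by
      rw [show ⁅M.a, p⁻¹ * (s * p * s⁻¹)⁆ = p⁻¹ * (ρ⁻¹ * ⁅M.a, s * p * s⁻¹⁆) * p by
        rw [hρ]; simp only [commutatorElement_def]; group, ← hsv, ← hρ, ← hσ]
      have := M.F.conj_C (inv_mem hpC) hy
      rwa [inv_inv] at this
    rw [← hu] at hy ⊢
    exact M.value_mem hy
  have hσν : ⁅M.a, σ⁆ = ν := by
    have h1 : σ = ρ * (ρ⁻¹ * σ) := by group
    have h2 : ⁅M.a, ρ⁻¹ * σ⁆ = 1 :=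
      commutatorElement_eq_one_iff_mul_comm.2 (M.D_fixed hyD)
    rw [h1, M.value_mul hρC (by rw [h2]; exact one_mem _), h2, mul_one]
  rw [hσ, ← hsv, ← hν] at hσν
  refine hmoveD fun u hu => ?_
  rcases four_mem (X := M.D) M.card htD hνD ht1 hν1 (Ne.symm hνt) (M.F.sq _ htD.2)
    (M.F.sq _ hνD.2) u hu with rfl | rfl | rfl | rfl
  · group
  · exact hdc s
  · exact hσν
  · rw [← conj_mul, hdc s, hσν]

theorem exists_transvection (hS : IsPGroup 2 S) {d : S} (hdD : d ∈ M.D) (hd1 : d ≠ 1)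
    (hdc : ∀ g : S, g * d * g⁻¹ = d) (ι : H →* S)
    (hs2 : ¬ (M.F.C.comap ι ⊔ frattini H).index ≤ 2) :
    ∃ h : H, h ∉ M.F.C.comap ι ∧ ∀ e ∈ M.F.N, ⁅ι h, e⁆ = 1 ∨ ⁅ι h, e⁆ = d := by
  haveI : Fact (Nat.Prime 2) := ⟨Nat.prime_two⟩
  haveI : (zpowers d).Normal :=
    normal_of_le_center (zpowers_le.2 (mem_center_iff.2 fun g => mul_inv_eq_iff_eq_mul.1 (hdc g)))
  have hd2 : orderOf d = 2 := orderOf_eq_prime (M.F.sq d hdD.2) hd1
  have hz : ∀ y ∈ zpowers d, y = 1 ∨ y = d := fun y hy => by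
    obtain ⟨k, rfl⟩ := mem_zpowers_iff.1 hy
    rcases Int.even_or_odd k with ⟨j, rfl⟩ | ⟨j, rfl⟩
    · left
      rw [← two_mul, zpow_mul, zpow_ofNat, M.F.sq d hdD.2, one_zpow]
    · right
      rw [zpow_add, zpow_mul, zpow_ofNat, M.F.sq d hdD.2, one_zpow, one_mul, zpow_one]
  obtain ⟨P, hPn, hdP, hPN, hPc⟩ := exists_normal_card_eq hS
    (zpowers_le.2 hdD.2 : zpowers d ≤ M.F.N) (k := 2)
    (by rw [Nat.card_zpowers, hd2]; norm_num) (by rw [M.F.card]; norm_num)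
  have hdP' : d ∈ P := hdP (mem_zpowers d)
  obtain ⟨e2, he2P, he2⟩ : ∃ e ∈ P, e ∉ zpowers d := SetLike.not_le_iff_exists.1 fun h => by
    have := Subgroup.card_le_of_le h
    rw [Nat.card_zpowers, hd2, hPc] at this
    omega
  obtain ⟨e3, he3, he3P⟩ := M.F.exists_notMem (X := P) (by omega)
  have he21 : e2 ≠ 1 := fun h => he2 (h ▸ one_mem _)
  have he2d : d ≠ e2 := fun h => he2 (h ▸ mem_zpowers d)
  have hP4 := four_mem hPc hdP' he2P hd1 he21 he2d (M.F.sq d hdD.2) (M.F.sq e2 (hPN he2P))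
  have hP2 : ∀ g : S, ∀ u ∈ P, ⁅g, u⁆ ∈ zpowers d := by
    intro g u hu
    have key : ⁅g, e2⁆ ∈ zpowers d := by
      rcases hP4 _ (hPn.conj_mem e2 he2P g) with h | h | h | h
      · exact absurd (conj_eq_one_iff.1 h) he21
      · rw [← hdc g] at h
        exact absurd (mul_left_cancel (mul_right_cancel h)) (Ne.symm he2d)
      · rw [commutatorElement_def, h, mul_inv_cancel]; exact one_mem _
      · rw [commutatorElement_def, h, mul_inv_cancel_right]; exact mem_zpowers d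
    rcases hP4 u hu with rfl | rfl | rfl | rfl
    · rw [commutatorElement_one_right]; exact one_mem _
    · rw [commutatorElement_def, hdc g, mul_inv_cancel]; exact one_mem _
    · exact key
    · rw [show ⁅g, d * e2⁆ = g * d * g⁻¹ * ⁅g, e2⁆ * d⁻¹ by
        simp only [commutatorElement_def]; group, hdc g]
      exact mul_mem (mul_mem (mem_zpowers d) key) (inv_mem (mem_zpowers d))
  have hPi : (P.subgroupOf M.F.N).index = 2 := by
    have h1 := (P.subgroupOf M.F.N).card_mul_index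
    rw [Nat.card_congr (Subgroup.subgroupOfEquivOfLe hPN).toEquiv, hPc, M.F.card] at h1
    omega
  have hNP : ∀ g : S, ⁅g, e3⁆ ∈ P := by
    intro g
    have h1 : (⟨g * e3 * g⁻¹, M.F.conj_mem g he3⟩ * ⟨e3⁻¹, inv_mem he3⟩ : M.F.N) ∈
        P.subgroupOf M.F.N := by
      rw [Subgroup.mul_mem_iff_of_index_two hPi, Subgroup.mem_subgroupOf, Subgroup.mem_subgroupOf]
      refine iff_of_false (fun h => he3P ?_) fun h => he3P (inv_mem_iff.1 h)
      have h2 := hPn.conj_mem _ h g⁻¹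
      rwa [show g⁻¹ * (g * e3 * g⁻¹) * g⁻¹⁻¹ = e3 by group] at h2
    exact h1
  -- the subgroup acting trivially on `N / ⟨d⟩` has index at most two
  have hmk : ∀ g : S, ⁅g, e3⁆ ∈ zpowers d → ∀ e ∈ M.F.N, ⁅g, e⁆ ∈ zpowers d := by
    intro g hg e he
    by_cases heP : e ∈ P
    · exact hP2 g e heP
    have h1 : (⟨e, he⟩ * ⟨e3, he3⟩ : M.F.N) ∈ P.subgroupOf M.F.N := by
      rw [Subgroup.mul_mem_iff_of_index_two hPi, Subgroup.mem_subgroupOf, Subgroup.mem_subgroupOf]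
      exact iff_of_false heP he3P
    have h2 := hP2 g _ h1
    change ⁅g, e * e3⁆ ∈ zpowers d at h2
    rw [show ⁅g, e * e3⁆ = ⁅g, e⁆ * (e * ⁅g, e3⁆ * e⁻¹) by
      simp only [commutatorElement_def]; group] at h2
    exact (Subgroup.mul_mem_cancel_right _
      ((inferInstance : (zpowers d).Normal).conj_mem _ hg e)).1 h2
  have hpair : ∀ g k : S, ⁅g, e3⁆ ∉ zpowers d → ⁅k, e3⁆ ∉ zpowers d →
      ⁅g⁻¹ * k, e3⁆ ∈ zpowers d := by
    intro g k hg hk
    have hgk : (⁅g, e3⁆)⁻¹ * ⁅k, e3⁆ ∈ zpowers d := by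
      have hPz : ∀ u ∈ P, u ∉ zpowers d → u = e2 ∨ u = d * e2 := fun u hu hu' => by
        rcases hP4 u hu with h | h | h | h
        · exact absurd (h ▸ one_mem _) hu'
        · exact absurd (h ▸ mem_zpowers d) hu'
        · exact Or.inl h
        · exact Or.inr h
      rcases hPz _ (hNP g) hg with h | h <;> rcases hPz _ (hNP k) hk with h' | h' <;> rw [h, h']
      · rw [inv_mul_cancel]; exact one_mem _
      · rw [← mul_assoc]
        have := (inferInstance : (zpowers d).Normal).conj_mem _ (mem_zpowers d) e2⁻¹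
        rwa [inv_inv] at this
      · rw [mul_inv_rev, mul_assoc]
        have := (inferInstance : (zpowers d).Normal).conj_mem _ (inv_mem (mem_zpowers d)) e2⁻¹
        rwa [inv_inv, mul_assoc] at this
      · rw [inv_mul_cancel]; exact one_mem _
    have h1 := (inferInstance : (zpowers d).Normal).conj_mem _ hgk g⁻¹
    rw [inv_inv] at h1
    have h2 : ⁅g⁻¹ * k, e3⁆ = g⁻¹ * ((⁅g, e3⁆)⁻¹ * (⁅g, e3⁆ * ⁅k, e3⁆ * (⁅g, e3⁆)⁻¹)) * g := by
      simp only [commutatorElement_def]; group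
    have hv : ⁅g, e3⁆ ∈ M.F.N := mul_mem (M.F.conj_mem g he3) (inv_mem he3)
    have hw : ⁅k, e3⁆ ∈ M.F.N := mul_mem (M.F.conj_mem k he3) (inv_mem he3)
    rw [h2, M.F.comm _ hv _ hw, mul_inv_cancel_right]
    exact h1
  set Y := M.F.C.comap ι ⊔ frattini H with hY
  have hYn : ∀ h : H, h ∉ Y → h ∉ M.F.C.comap ι := fun h h1 h2 => h1 (mem_sup_left h2)
  obtain ⟨h₁, hh₁⟩ : ∃ h₁, h₁ ∉ Y := by
    by_contra hcon
    simp only [not_exists, not_not] at hcon
    exact hs2 (by rw [(Subgroup.eq_top_iff' Y).2 hcon, Subgroup.index_top]; norm_num)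
  obtain ⟨h₂, hh₂, hh₁₂⟩ : ∃ h₂, h₂ ∉ Y ∧ h₁⁻¹ * h₂ ∉ Y := by
    by_contra hcon
    simp only [not_exists, not_and, not_not] at hcon
    refine hs2 ((Nat.card_le_card_of_surjective (α := Bool)
      (fun b => if b then (h₁ : H ⧸ Y) else ((1 : H) : H ⧸ Y)) ?_).trans
      (by rw [Nat.card_eq_fintype_card, Fintype.card_bool]))
    intro q
    obtain ⟨y, rfl⟩ := QuotientGroup.mk_surjective q
    by_cases hy : y ∈ Y
    · exact ⟨false, QuotientGroup.eq.2 (by simpa using hy)⟩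
    · exact ⟨true, QuotientGroup.eq.2 (hcon y hy)⟩
  have fin : ∀ h : H, h ∉ Y → ⁅ι h, e3⁆ ∈ zpowers d →
      ∃ h : H, h ∉ M.F.C.comap ι ∧ ∀ e ∈ M.F.N, ⁅ι h, e⁆ = 1 ∨ ⁅ι h, e⁆ = d := fun h h1 h2 =>
    ⟨h, hYn h h1, fun e he => hz _ (hmk _ h2 e he)⟩
  by_cases c₁ : ⁅ι h₁, e3⁆ ∈ zpowers d
  · exact fin h₁ hh₁ c₁
  by_cases c₂ : ⁅ι h₂, e3⁆ ∈ zpowers d
  · exact fin h₂ hh₂ c₂
  refine fin _ hh₁₂ ?_
  rw [map_mul, map_inv]
  exact hpair _ _ c₁ c₂

/-- A transvection with centre `d` moves `x` by an element of `N` outside `⟨d⟩`. -/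
theorem commutator_x {d : S} (hdD : d ∈ M.D) (hdc : ∀ g : S, g * d * g⁻¹ = d)
    (ht : ∀ e ∈ M.F.N, (e ∈ M.D ∧ ⁅M.a, e⁆ = 1) ∨ (e ∉ M.D ∧ ⁅M.a, e⁆ = d))
    (hn1 : ⁅M.a, M.x⁆ ≠ 1) (hnd : ⁅M.a, M.x⁆ ≠ d)
    (hC : ∀ c ∈ M.F.C, c ∈ M.F.N ∨ c * M.x ∈ M.F.N)
    (hcc : ∀ c ∈ M.F.C, ∀ c' ∈ M.F.C, Commute c c') {g : S} (hgC : g ∉ M.F.C)
    (hg : ∀ e ∈ M.F.N, ⁅g, e⁆ = 1 ∨ ⁅g, e⁆ = d) :
    ⁅g, M.x⁆ ∈ M.F.N ∧ ⁅g, M.x⁆ ≠ 1 ∧ ⁅g, M.x⁆ ≠ d := by
  have hn := M.value_mem M.hx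
  have hgd : Commute g d := mul_inv_eq_iff_eq_mul.1 (hdc g)
  have hd1 : d ≠ 1 := by
    intro h
    refine hgC (M.F.mem_C.2 fun e he => ?_)
    have : ⁅g, e⁆ = 1 := (hg e he).elim id fun h' => h'.trans h
    exact (commutatorElement_eq_one_iff_mul_comm.1 this).symm
  have hzN : ⁅g, M.x⁆ ∈ M.F.N := by
    have hxC' : g * M.x * g⁻¹ ∈ M.F.C := (inferInstance : M.F.C.Normal).conj_mem _ M.hxC g
    have hxN' : g * M.x * g⁻¹ ∉ M.F.N := fun h => M.hxN (by
      have := M.F.conj_mem g⁻¹ h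
      rwa [show g⁻¹ * (g * M.x * g⁻¹) * g⁻¹⁻¹ = M.x by group] at this)
    have h2 := (hC _ M.hxC).resolve_left M.hxN
    have h3 := mul_mem ((hC _ hxC').resolve_left hxN') (inv_mem h2)
    rwa [show g * M.x * g⁻¹ * M.x * (M.x * M.x)⁻¹ = ⁅g, M.x⁆ by
      simp only [commutatorElement_def]; group] at h3
  refine ⟨hzN, ?_⟩
  by_cases hgn : ⁅g, ⁅M.a, M.x⁆⁆ = 1
  · -- `g` acts as `a`
    have hac : M.a⁻¹ * g ∈ M.F.C := by
      refine M.F.mem_C.2 fun e he => ?_
      have h1 : g * e * g⁻¹ = M.a * e * M.a⁻¹ := by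
        refine mul_right_cancel (b := e⁻¹) (?_ : ⁅g, e⁆ = ⁅M.a, e⁆)
        rcases ht e he with ⟨heD, h⟩ | ⟨heD, h⟩
        · rw [h]
          rcases four_mem (X := M.D) M.card hdD hn hd1 hn1 (Ne.symm hnd) (M.F.sq d hdD.2)
            (M.F.sq _ hn.2) e heD with rfl | rfl | rfl | rfl
          · exact commutatorElement_one_right g
          · rw [commutatorElement_def, hdc g, mul_inv_cancel]
          · exact hgn
          · rw [commutatorElement_eq_one_iff_mul_comm]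
            exact (hgd.mul_right (commutatorElement_eq_one_iff_mul_comm.1 hgn)).eq
        · rw [h]
          refine (hg e he).resolve_left fun h' => hgC (M.F.mem_C_of_fixed ?_)
          have hle : M.D < M.F.N ⊓ centralizer ({g} : Set S) := by
            refine lt_of_le_of_ne (fun u hu => ⟨hu.2, mem_centralizer_singleton_iff.2 ?_⟩)
              fun h0 => heD (h0 ▸ ⟨he, mem_centralizer_singleton_iff.2
                (commutatorElement_eq_one_iff_mul_comm.1 h').symm⟩)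
            rcases four_mem (X := M.D) M.card hdD hn hd1 hn1 (Ne.symm hnd) (M.F.sq d hdD.2)
              (M.F.sq _ hn.2) u hu with rfl | rfl | rfl | rfl
            · rw [one_mul, mul_one]
            · exact (mul_inv_eq_iff_eq_mul.1 (hdc g)).symm
            · exact (commutatorElement_eq_one_iff_mul_comm.1 hgn).symm
            · exact (hgd.mul_right (commutatorElement_eq_one_iff_mul_comm.1 hgn)).symm.eq
          have h1 := Set.ncard_lt_ncard (SetLike.coe_ssubset_coe.2 hle) (Set.toFinite _)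
          change Nat.card ↥(M.T.A ⊓ M.F.N) < Nat.card ↥(M.F.N ⊓ centralizer ({g} : Set S)) at h1
          rw [M.card] at h1
          exact h1
      calc e * (M.a⁻¹ * g) = M.a⁻¹ * (M.a * e * M.a⁻¹) * g := by group
        _ = M.a⁻¹ * g * e := by rw [← h1]; group
    have hz : ⁅g, M.x⁆ = ⁅M.a, M.x⁆ := by
      calc ⁅g, M.x⁆ = M.a * (M.a⁻¹ * g * M.x * (M.a⁻¹ * g)⁻¹) * M.a⁻¹ * M.x⁻¹ := by
            simp only [commutatorElement_def]; group
        _ = ⁅M.a, M.x⁆ := by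
            rw [(hcc _ hac _ M.hxC).eq, mul_inv_cancel_right, commutatorElement_def]
    rw [hz]
    exact ⟨hn1, hnd⟩
  -- `g` moves `[a, x]`
  have hgn' : ⁅g, ⁅M.a, M.x⁆⁆ = d := (hg _ hn.2).resolve_left hgn
  have hga : ⁅g, M.a⁆ ∈ M.F.C := by
    refine M.F.mem_C.2 fun u hu => ?_
    set e := (M.a * g)⁻¹ * u * (M.a * g) with he_def
    have he : e ∈ M.F.N := by
      have := M.F.conj_mem (M.a * g)⁻¹ hu
      rwa [inv_inv] at this
    obtain ⟨α, hα, hαc⟩ : ∃ α, M.a * e * M.a⁻¹ = α * e ∧ ∀ k : S, k * α * k⁻¹ = α := by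
      refine ⟨⁅M.a, e⁆, by rw [commutatorElement_def, inv_mul_cancel_right], fun k => ?_⟩
      rcases ht e he with ⟨-, h⟩ | ⟨-, h⟩ <;> rw [h]
      · group
      · exact hdc k
    obtain ⟨γ, hγ, hγc⟩ : ∃ γ, g * e * g⁻¹ = γ * e ∧ ∀ k : S, k * γ * k⁻¹ = γ := by
      refine ⟨⁅g, e⁆, by rw [commutatorElement_def, inv_mul_cancel_right], fun k => ?_⟩
      rcases hg e he with h | h <;> rw [h]
      · group
      · exact hdc k
    have h1 : g * M.a * e * (g * M.a)⁻¹ = α * (γ * e) := by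
      rw [show g * M.a * e * (g * M.a)⁻¹ = g * (M.a * e * M.a⁻¹) * g⁻¹ by group, hα, ← conj_mul,
        hαc, hγ]
    have h2 : u = γ * (α * e) := by
      rw [show u = M.a * (g * e * g⁻¹) * M.a⁻¹ by rw [he_def]; group, hγ, ← conj_mul, hγc, hα]
    have h3 : ⁅g, M.a⁆ * u * (⁅g, M.a⁆)⁻¹ = g * M.a * e * (g * M.a)⁻¹ := by
      rw [he_def, commutatorElement_def]; group
    have h4 : α * γ = γ * α := mul_inv_eq_iff_eq_mul.1 (hγc α)
    have h5 : g * M.a * e * (g * M.a)⁻¹ = u := by rw [h1, h2, ← mul_assoc, h4, mul_assoc]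
    rw [h5] at h3
    exact (mul_inv_eq_iff_eq_mul.1 h3).symm
  have hzD : ⁅g, M.x⁆ ∉ M.D := by
    intro hzD
    have hxx : g * M.x * g⁻¹ = ⁅g, M.x⁆ * M.x := by rw [commutatorElement_def, inv_mul_cancel_right]
    have hxC' : g * M.x * g⁻¹ ∈ M.F.C := (inferInstance : M.F.C.Normal).conj_mem _ M.hxC g
    have h1 : g * ⁅M.a, M.x⁆ * g⁻¹ = ⁅M.a, g * M.x * g⁻¹⁆ := by
      calc g * ⁅M.a, M.x⁆ * g⁻¹
          = ⁅g, M.a⁆ * (M.a * (g * M.x * g⁻¹) * M.a⁻¹) * (⁅g, M.a⁆)⁻¹ * (g * M.x * g⁻¹)⁻¹ := by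
            simp only [commutatorElement_def]; group
        _ = _ := by
            rw [(hcc _ hga _ ((inferInstance : M.F.C.Normal).conj_mem _ hxC' M.a)).eq,
              mul_inv_cancel_right, ← commutatorElement_def]
    rw [hxx, M.value_mul (M.F.N_le_C hzN) M.hx,
      commutatorElement_eq_one_iff_mul_comm.2 (M.D_fixed hzD), one_mul] at h1
    exact hgn (commutatorElement_eq_one_iff_mul_comm.2 (mul_inv_eq_iff_eq_mul.1 h1))
  exact ⟨fun h => hzD (h ▸ one_mem _), fun h => hzD (h ▸ hdD)⟩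

/-- The case where some element outside `A` commutes with `a`. -/
theorem index_le_of_commute (hS : IsPGroup 2 S) {s : S} (hs : Commute s M.a) (hsA : s ∉ M.T.A)
    (ι : H →* S) (hι : Function.Injective ι) : (frattini H).index ≤ 16 := by
  haveI : Fact (Nat.Prime 2) := ⟨Nat.prime_two⟩
  have hH : IsPGroup 2 H := hS.of_injective ι hι
  obtain ⟨d, hdD, hd1, hdc, hn1, hnd, ht, hC⟩ := M.structure_of_commute hS hs hsA
  have hn := M.value_mem M.hx
  -- `C` is abelian of order at most sixteen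
  have hcx : ∀ c ∈ M.F.C, Commute c M.x := by
    intro c hc
    rcases hC c hc with h | h
    · exact M.F.mem_C.1 M.hxC c h
    · have h1 : Commute (c * M.x) M.x := M.F.mem_C.1 M.hxC _ h
      have h2 := h1.mul_left ((Commute.refl M.x).inv_left)
      rwa [mul_inv_cancel_right] at h2
  have hcc : ∀ c ∈ M.F.C, ∀ c' ∈ M.F.C, Commute c c' := by
    intro c hc c' hc'
    rcases hC c hc with h | h
    · exact M.F.mem_C.1 hc' c h
    · have h1 : Commute (c * M.x) c' := M.F.mem_C.1 hc' _ h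
      have h2 := h1.mul_left ((hcx c' hc').symm.inv_left)
      rwa [mul_inv_cancel_right] at h2
  have hC16 : Nat.card M.F.C ≤ 16 := by
    refine card_sub_le (s := (M.F.N : Set S) ∪ (fun e => e * M.x⁻¹) '' (M.F.N : Set S))
      (fun c hc => (hC c hc).imp id fun h => ⟨c * M.x, h, mul_inv_cancel_right _ _⟩) ?_
    refine (Set.ncard_union_le _ _).trans ?_
    rw [Set.ncard_image_of_injective _ (mul_left_injective _)]
    change Nat.card M.F.N + Nat.card M.F.N ≤ 16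
    rw [M.F.card]
  set K := M.F.C.comap ι with hK
  haveI : K.Normal := inferInstance
  have hKc : Nat.card K ≤ 16 := by
    refine le_trans ?_ hC16
    exact Nat.card_le_card_of_injective (fun k => (⟨ι k, k.2⟩ : M.F.C))
      fun u v huv => Subtype.ext (hι (congrArg Subtype.val huv))
  have hrel := relIndex_le_card (H := H) K
  have hsup : (K ⊔ frattini H).index ≤ 4 := M.F.sup_comap_C_le hS hH ι
  have hidx := index_frattini_eq K
  by_cases hK4 : Nat.card K ≤ 4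
  · rw [hidx]
    exact (Nat.mul_le_mul (hrel.trans hK4) hsup).trans (by norm_num)
  have hKimg : Nat.card (K.map ι) = Nat.card K :=
    Nat.card_congr (Subgroup.equivMapOfInjective K ι hι).symm.toEquiv
  have hK8 : 8 ≤ Nat.card K := eq_of_dvd_and_le (X := K) (k := 2) hH (not_le.1 hK4)
  -- when `|K| = 16`, it maps onto `C`
  have honto : ¬ Nat.card K ≤ 8 → ∀ c ∈ M.F.C, ∃ k ∈ K, ι k = c := by
    intro h8 c hc
    have h16 : 16 ≤ Nat.card K := eq_of_dvd_and_le (X := K) (k := 3) hH (not_le.1 h8)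
    have heq : K.map ι = M.F.C := Subgroup.eq_of_le_of_card_ge (Subgroup.map_comap_le _ _) (by
      rw [hKimg]; exact hC16.trans h16)
    obtain ⟨k, hk, hkc⟩ : c ∈ K.map ι := heq.symm ▸ hc
    exact ⟨k, hk, hkc⟩
  by_cases hKt : K = ⊤
  · refine index_frattini_le_card.trans ?_
    rw [← Subgroup.card_top (G := H), ← hKt]
    exact hKc
  by_cases hs2 : (K ⊔ frattini H).index ≤ 2
  · rw [hidx]
    refine (Nat.mul_le_mul (?_ : (frattini H).relIndex K ≤ 8) hs2).trans (by norm_num)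
    by_cases h8 : Nat.card K ≤ 8
    · exact hrel.trans h8
    obtain ⟨h, -, hh⟩ := SetLike.exists_of_lt (lt_top_iff_ne_top.2 hKt)
    obtain ⟨m, hm, hm1⟩ : ∃ m ∈ K, ⁅h, m⁆ ≠ 1 := by
      by_contra hcon
      simp only [not_exists, not_and, not_not] at hcon
      refine hh (show ι h ∈ M.F.C from M.F.mem_C.2 fun e he => ?_)
      obtain ⟨m, hm, rfl⟩ := honto h8 e (M.F.N_le_C he)
      rw [← map_mul, ← map_mul, commutatorElement_eq_one_iff_mul_comm.1 (hcon m hm)]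
    have := two_mul_relIndex_le K (M.F.commutator_mem_comap ι hm h) hm1
      (Eight.commutator_mem_frattini hH h m)
    omega
  -- an element inducing a transvection with centre `d`
  obtain ⟨h, hhK, hhd⟩ : ∃ h : H, h ∉ K ∧ ∀ e ∈ M.F.N, ⁅ι h, e⁆ = 1 ∨ ⁅ι h, e⁆ = d :=
    M.exists_transvection hS hdD hd1 hdc ι hs2
  set g := ι h with hg
  have hgC : g ∉ M.F.C := hhK
  obtain ⟨hzN, hz1, hzd⟩ := M.commutator_x hdD hdc ht hn1 hnd hC hcc hgC hhd
  obtain ⟨e, he, hed⟩ : ∃ e ∈ M.F.N, ⁅g, e⁆ = d := by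
    by_contra hcon
    simp only [not_exists, not_and] at hcon
    refine hgC (M.F.mem_C.2 fun e he => ?_)
    exact (commutatorElement_eq_one_iff_mul_comm.1 ((hhd e he).resolve_right (hcon e he))).symm
  suffices hrel5 : (frattini H).relIndex K ≤ 5 by
    obtain ⟨i, hi⟩ := index_eq_pow hH (frattini H)
    have h20 : (frattini H).index ≤ 20 := by
      rw [hidx]; exact (Nat.mul_le_mul hrel5 hsup).trans (by norm_num)
    rw [hi] at h20 ⊢
    have : i ≤ 4 := by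
      by_contra hi5
      have : 2 ^ 5 ≤ 2 ^ i := Nat.pow_le_pow_right two_pos (by omega)
      omega
    exact Nat.pow_le_pow_right two_pos this
  by_cases h8 : Nat.card K ≤ 8
  · obtain ⟨m, hm, hm1⟩ : ∃ m ∈ K, ⁅h, m⁆ ≠ 1 := by
      by_contra hcon
      simp only [not_exists, not_and, not_not] at hcon
      have hle : K.map ι ≤ M.F.N ⊓ centralizer ({g} : Set S) := by
        rintro _ ⟨k, hk, rfl⟩
        have hkg : ⁅g, ι k⁆ = 1 := by rw [hg, ← map_commutatorElement, hcon k hk, map_one]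
        refine ⟨?_, mem_centralizer_singleton_iff.2 (commutatorElement_eq_one_iff_mul_comm.1 hkg).symm⟩
        by_contra hkN
        have hkx : ι k * M.x ∈ M.F.N := (hC _ hk).resolve_left hkN
        have h1 : ⁅g, ι k * M.x⁆ = ⁅g, M.x⁆ := by
          rw [show ⁅g, ι k * M.x⁆ = ⁅g, ι k⁆ * (ι k * ⁅g, M.x⁆ * (ι k)⁻¹) by
            simp only [commutatorElement_def]; group, hkg, one_mul, M.F.conj_C hk hzN]
        rcases hhd _ hkx with h' | h'
        · exact hz1 (h1.symm.trans h')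
        · exact hzd (h1.symm.trans h')
      have h1 := Subgroup.card_le_of_le hle
      rw [hKimg] at h1
      exact hgC (M.F.mem_C_of_fixed (by omega))
    have := two_mul_relIndex_le K (M.F.commutator_mem_comap ι hm h) hm1
      (Eight.commutator_mem_frattini hH h m)
    omega
  obtain ⟨m₁, hm₁, hm₁e⟩ := honto h8 e (M.F.N_le_C he)
  obtain ⟨m₂, hm₂, hm₂e⟩ := honto h8 M.x M.hxC
  have h₁ : ι ⁅h, m₁⁆ = d := by rw [map_commutatorElement, hm₁e, ← hg, hed]
  have h₂ : ι ⁅h, m₂⁆ = ⁅g, M.x⁆ := by rw [map_commutatorElement, hm₂e, hg]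
  have := three_mul_relIndex_le K (M.F.commutator_mem_comap ι hm₁ h)
    (M.F.commutator_mem_comap ι hm₂ h) (fun h' => hd1 (by rw [← h₁, h', map_one]))
    (fun h' => hz1 (by rw [← h₂, h', map_one]))
    (fun h' => hzd (by rw [← h₂, ← h', h₁]))
    (Eight.commutator_mem_frattini hH h m₁) (Eight.commutator_mem_frattini hH h m₂)
  omega

end Meet

end CfsgLib.PGroups.Harada

namespace CfsgLib.PGroups.Harada

open Subgroup

/-- **Harada.** With a self-centralizing elementary abelian subgroup of order eight, the Frattini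
subgroup of a subgroup has index at most sixteen. -/
theorem index_frattini_le_sixteen {S : Type*} [Group S] [Finite S] {H : Type*} [Group H] [Finite H]
    (hS : IsPGroup 2 S) (T : SelfCent S) (ι : H →* S) (hι : Function.Injective ι) :
    (frattini H).index ≤ 16 := by
  haveI : Fact (Nat.Prime 2) := ⟨Nat.prime_two⟩
  by_cases h8 : ∀ A : Subgroup S, A.Normal → IsMulCommutative A → (∀ a ∈ A, a ^ 2 = 1) →
      Nat.card A ≤ 4
  · exact MacWilliams.index_frattini_le_sixteen hS h8 ι hι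
  simp only [not_forall, not_le] at h8
  obtain ⟨N₀, hn, hc, h2, h4⟩ := h8
  haveI := hn
  have h8' : 8 ≤ Nat.card N₀ := eq_of_dvd_and_le (X := N₀) (k := 2) hS h4
  obtain ⟨N, hN, -, hNle, hNc⟩ := exists_normal_card_eq hS (bot_le : ⊥ ≤ N₀) (k := 3)
    (by rw [Subgroup.card_bot]; norm_num) (by omega)
  let F : Eight S := ⟨N, hN, fun x hx y hy =>
    congrArg Subtype.val (hc.is_comm.comm ⟨x, hNle hx⟩ ⟨y, hNle hy⟩),
    fun x hx => h2 x (hNle hx), hNc⟩
  obtain ⟨T', hT'⟩ := F.exists_selfCent_meet T hS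
  by_cases hCN : F.C ≤ F.N
  · exact F.index_le_of_C_le hS hCN ι hι
  by_cases h48 : 4 < Nat.card ↥(T'.A ⊓ F.N)
  · refine F.index_le_of_C_le hS ?_ ι hι
    intro c hc
    have h1 := eq_of_lt_two_mul (inf_le_left : T'.A ⊓ F.N ≤ T'.A) (k := 2) (by rw [T'.card]; rfl)
      (by simpa using h48)
    have hle : T'.A ≤ F.N := inf_eq_left.1 h1
    exact hle (T'.self c fun y hy => F.mem_C.1 hc y (hle hy))
  have hcard : Nat.card ↥(T'.A ⊓ F.N) = 4 := by omega
  obtain ⟨a, haA, haN⟩ : ∃ a ∈ T'.A, a ∉ F.N := SetLike.not_le_iff_exists.1 fun h => by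
    rw [inf_eq_left.2 h, T'.card] at hcard
    omega
  obtain ⟨x, hxC, hxN, hx⟩ := exists_commutator_mem hS (w := a) (fun r hr =>
    mul_mem ((inferInstance : F.C.Normal).conj_mem r hr a) (inv_mem hr)) hCN
  let M : Meet S := ⟨F, T', a, haA, haN, hcard, x, hxC, hxN, hx⟩
  by_cases hca : ∀ g : S, Commute g M.a → g ∈ M.T.A
  · exact M.index_le_of_centralizer hS hca ι hι
  simp only [not_forall] at hca
  obtain ⟨s, hs, hsA⟩ := hca
  exact M.index_le_of_commute hS hs hsA ι hι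

end CfsgLib.PGroups.Harada
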