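import Cfsg.Agent.Lib.PGroups.MaximalClassTwo
import Cfsg.Agent.Lib.Base.Frattini
import Cfsg.Agent.Lib.Higman.AlperinSolvable
import Cfsg.Prelude.Def_CaseTheorems

/-!
# Counting in two-groups, towards Harada's theorem on self-centralizing subgroups of order eight
-/

set_option autoImplicit false
set_option linter.unusedSectionVars false
set_option linter.style.haveILetI false

namespace CfsgLib.PGroups.Harada

open Subgroup
open scoped commutatorElement

universe u

theorem card_sub_le {G : Type*} [Group G] [Finite G] {X : Subgroup G} {s : Set G} {k : ℕ}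
    (h : (X : Set G) ⊆ s) (hs : s.ncard ≤ k) : Nat.card X ≤ k :=
  (Set.ncard_le_ncard h (Set.toFinite _)).trans hs

theorem three_le_card {G : Type*} [Group G] [Finite G] {X : Subgroup G} {u v : G}
    (hu : u ∈ X) (hv : v ∈ X) (hu1 : u ≠ 1) (hv1 : v ≠ 1) (huv : u ≠ v) : 3 ≤ Nat.card X := by
  have h : ({1, u, v} : Set G) ⊆ (X : Set G) := by
    intro x hx
    rcases hx with rfl | rfl | rfl
    exacts [one_mem _, hu, hv]
  have h1 := Set.ncard_le_ncard h (Set.toFinite _)
  rwa [Set.ncard_eq_three.2 ⟨1, u, v, Ne.symm hu1, Ne.symm hv1, huv, rfl⟩] at h1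

/-- A subgroup of more than half of a subgroup of two-power order is all of it. -/
theorem eq_of_lt_two_mul {G : Type*} [Group G] [Finite G] {X Y : Subgroup G} (h : X ≤ Y) {k : ℕ}
    (hY : Nat.card Y = 2 ^ (k + 1)) (hX : 2 ^ k < Nat.card X) : X = Y := by
  refine Subgroup.eq_of_le_of_card_ge h ?_
  obtain ⟨j, hj, hXj⟩ := (Nat.dvd_prime_pow Nat.prime_two).1 (hY ▸ Subgroup.card_dvd_of_le h)
  rw [hXj] at hX ⊢
  have := (Nat.pow_lt_pow_iff_right (a := 2) one_lt_two).1 hX
  rw [hY, show j = k + 1 by omega]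

variable {H : Type*} [Group H] [Finite H]

theorem index_frattini_eq (M : Subgroup H) [M.Normal] :
    (frattini H).index = (frattini H).relIndex M * (M ⊔ frattini H).index := by
  haveI : (frattini H).Normal := inferInstance
  rw [← Subgroup.relIndex_sup_right (H := M) (K := frattini H),
    Subgroup.relIndex_mul_index le_sup_right]

theorem relIndex_mul_card (M : Subgroup H) :
    (frattini H).relIndex M * Nat.card ↥((frattini H).subgroupOf M) = Nat.card M := by
  rw [mul_comm]; exact Subgroup.card_mul_index _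

theorem relIndex_le_card (M : Subgroup H) : (frattini H).relIndex M ≤ Nat.card M := by
  rw [← relIndex_mul_card M]
  exact Nat.le_mul_of_pos_right _ Nat.card_pos

theorem two_mul_relIndex_le (M : Subgroup H) {m : H} (hm : m ∈ M) (hm1 : m ≠ 1)
    (hmF : m ∈ frattini H) : 2 * (frattini H).relIndex M ≤ Nat.card M := by
  rw [← relIndex_mul_card M, mul_comm]
  refine Nat.mul_le_mul_left _ (Subgroup.one_lt_card_iff_ne_bot _ |>.2 fun h => hm1 ?_)
  have h1 : (⟨m, hm⟩ : M) ∈ (frattini H).subgroupOf M := hmF
  rw [h] at h1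
  exact congrArg Subtype.val (Subgroup.mem_bot.1 h1)

theorem three_mul_relIndex_le (M : Subgroup H) {m m' : H} (hm : m ∈ M) (hm' : m' ∈ M)
    (hm1 : m ≠ 1) (hm1' : m' ≠ 1) (hne : m ≠ m') (hmF : m ∈ frattini H) (hmF' : m' ∈ frattini H) :
    3 * (frattini H).relIndex M ≤ Nat.card M := by
  rw [← relIndex_mul_card M, mul_comm]
  exact Nat.mul_le_mul_left _ (three_le_card (u := (⟨m, hm⟩ : M)) (v := ⟨m', hm'⟩) hmF hmF'
    (fun h => hm1 (congrArg Subtype.val h)) (fun h => hm1' (congrArg Subtype.val h))
    (fun h => hne (congrArg Subtype.val h)))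

/-- The index above a kernel is bounded by the generation of the image. -/
theorem sup_index_le {Q : Type*} [Group Q] (hH : IsPGroup 2 H) (f : H →* Q) (M : Subgroup H)
    (hM : f.ker = M) : (M ⊔ frattini H).index ≤ (frattini f.range).index := by
  haveI : Fact (Nat.Prime 2) := ⟨Nat.prime_two⟩
  haveI : Finite f.range := Finite.of_surjective _ f.rangeRestrict_surjective
  set g := f.rangeRestrict
  have hg : g.ker = M := by rw [MonoidHom.ker_rangeRestrict, hM]
  have hle : (frattini H).map g ≤ frattini f.range :=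
    Base.map_frattini_le g f.rangeRestrict_surjective
  have hF : frattini f.range ≤ (frattini H).map g := by
    haveI : ((frattini H).map g).Normal :=
      (inferInstance : (frattini H).Normal).map g f.rangeRestrict_surjective
    refine frattini_le_of_elementary_quotient (p := 2) ?_ fun y => ?_
    · rw [commutator_def, ← Subgroup.map_top_of_surjective g f.rangeRestrict_surjective,
        ← Subgroup.map_commutator]
      exact Subgroup.map_mono (commutator_le_frattini hH)
    · obtain ⟨x, rfl⟩ := f.rangeRestrict_surjective y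
      exact ⟨x ^ 2, pow_mem_frattini hH x, map_pow g x 2⟩
  rw [le_antisymm hF hle, Subgroup.index_map, MonoidHom.range_eq_top.2 f.rangeRestrict_surjective,
    Subgroup.index_top, mul_one, hg, sup_comm]

theorem index_frattini_le_card : (frattini H).index ≤ Nat.card H :=
  Nat.le_of_dvd Nat.card_pos (Subgroup.index_dvd_card _)

/-- A cyclic group has Frattini quotient of order at most two. -/
theorem index_frattini_le_two_of_cyclic [IsCyclic H] (hH : IsPGroup 2 H) :
    (frattini H).index ≤ 2 := by
  haveI : Fact (Nat.Prime 2) := ⟨Nat.prime_two⟩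
  obtain ⟨g, hg⟩ := IsCyclic.exists_generator (α := H)
  have hF : zpowers (g ^ 2) ≤ frattini H := zpowers_le.2 (pow_mem_frattini hH g)
  refine le_trans (Nat.le_of_dvd ?_ (Subgroup.index_dvd_of_le hF)) ?_
  · exact Nat.pos_of_ne_zero Subgroup.index_ne_zero_of_finite
  haveI : (zpowers (g ^ 2)).Normal := ⟨fun n hn y => by
    obtain ⟨k, rfl⟩ := mem_zpowers_iff.1 hn
    obtain ⟨l, rfl⟩ := mem_zpowers_iff.1 (hg y)
    rw [show g ^ l * (g ^ 2) ^ k * (g ^ l)⁻¹ = (g ^ 2) ^ k by group]
    exact zpow_mem (mem_zpowers _) k⟩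
  rw [Subgroup.index]
  refine (Nat.card_le_card_of_surjective
    (fun b : Bool => if b then ((g : H) : H ⧸ zpowers (g ^ 2)) else 1) ?_).trans
    (by rw [Nat.card_eq_fintype_card, Fintype.card_bool])
  intro q
  obtain ⟨y, rfl⟩ := QuotientGroup.mk_surjective q
  obtain ⟨l, rfl⟩ := mem_zpowers_iff.1 (hg y)
  rcases Int.even_or_odd l with ⟨j, rfl⟩ | ⟨j, rfl⟩
  · refine ⟨false, Eq.symm ((QuotientGroup.eq_one_iff _).2 ⟨j, ?_⟩)⟩
    show (g ^ 2) ^ j = g ^ (j + j)
    rw [← two_mul, zpow_mul, zpow_ofNat]
  · refine ⟨true, QuotientGroup.eq.2 ⟨j, ?_⟩⟩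
    show (g ^ 2) ^ j = g⁻¹ * g ^ (2 * j + 1)
    rw [zpow_add, zpow_one, zpow_mul]; group

/-- With a cyclic subgroup of index at most two, the Frattini quotient has order at most four. -/
theorem index_frattini_le_four_of_cyclic (hH : IsPGroup 2 H) (Z : Subgroup H) [IsCyclic Z]
    (hZ : Z.index ≤ 2) : (frattini H).index ≤ 4 := by
  haveI : Fact (Nat.Prime 2) := ⟨Nat.prime_two⟩
  have hF : (frattini Z).map Z.subtype ≤ frattini H := by
    haveI : Z.Normal := by
      rcases (show Z.index = 1 ∨ Z.index = 2 by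
        have : Z.index ≠ 0 := Subgroup.index_ne_zero_of_finite
        omega) with h | h
      · rw [Subgroup.index_eq_one.1 h]; infer_instance
      · exact Subgroup.normal_of_index_eq_two h
    exact Base.map_frattini_le_frattini Z
  refine le_trans (Nat.le_of_dvd ?_ (Subgroup.index_dvd_of_le hF)) ?_
  · exact Nat.pos_of_ne_zero Subgroup.index_ne_zero_of_finite
  rw [Subgroup.index_map_subtype]
  exact Nat.mul_le_mul (index_frattini_le_two_of_cyclic (hH.to_subgroup Z)) hZ

/-- An involution with centralizer of order at most four: the group is small or has a cyclic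
subgroup of index two. -/
theorem exists_cyclic_index_two {G : Type*} [Group G] [Finite G] (hG : IsPGroup 2 G) {a : G}
    (ha1 : a ≠ 1) (hC : Nat.card (centralizer ({a} : Set G)) ≤ 4) :
    Nat.card G ≤ 4 ∨ ∃ Z : Subgroup G, IsCyclic Z ∧ Z.index = 2 := by
  haveI : Fact (Nat.Prime 2) := ⟨Nat.prime_two⟩
  set X := centralizer ({a} : Set G)
  have haX : a ∈ X := mem_centralizer_singleton_iff.2 rfl
  obtain ⟨j, hj⟩ := card_subgroup_eq_pow hG X
  have hj1 : 1 ≤ j := by
    by_contra h
    rw [not_le, Nat.lt_one_iff] at h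
    rw [h, pow_zero, Subgroup.card_eq_one] at hj
    exact ha1 (Subgroup.mem_bot.1 (hj ▸ haX))
  have hj2 : j ≤ 2 := (Nat.pow_le_pow_iff_right one_lt_two).1 (hj ▸ hC)
  rcases (show j = 1 ∨ j = 2 by omega) with rfl | rfl
  · left
    by_contra hbig
    have hXtop : X < ⊤ := lt_top_iff_ne_top.2 fun h => hbig (by
      rw [h, Subgroup.card_top] at hj; omega)
    obtain ⟨g, hg, hgX⟩ := SetLike.exists_of_lt (lt_normalizer hG hXtop)
    refine hgX (mem_centralizer_singleton_iff.2 ?_)
    have h1 : g * a * g⁻¹ ∈ X := (Subgroup.mem_normalizer_iff.1 hg a).1 haX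
    have hall : ∀ x ∈ X, x = 1 ∨ x = a := fun x hx => by
      by_contra hcon
      simp only [not_or] at hcon
      have := three_le_card hx haX hcon.1 ha1 hcon.2
      omega
    rcases hall _ h1 with h | h
    · exact absurd (conj_eq_one_iff.1 h) ha1
    · exact mul_inv_eq_iff_eq_mul.1 h
  · have hXab : IsMulCommutative ↥X :=
      IsPGroup.isMulCommutative_of_card_eq_prime_sq (p := 2) (G := ↥X) hj
    obtain ⟨n, hn⟩ := IsPGroup.iff_card.1 hG
    have hself : centralizer (X : Set G) = X := by
      refine le_antisymm (fun x hx => mem_centralizer_singleton_iff.2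
        (mem_centralizer_iff.1 hx a haX).symm) ?_
      exact (isMulCommutative_iff_le_centralizer X).1 hXab
    by_cases hn3 : 3 ≤ n
    · right
      obtain ⟨c, hc⟩ := exists_orderOf_eq_of_maximalClass hn3 hn
        (maximalClass_of_centralizer_eq hn hj hself)
      refine ⟨zpowers c, inferInstance, ?_⟩
      have h1 := Subgroup.card_mul_index (zpowers c)
      rw [Nat.card_zpowers, hc, hn, show n = n - 1 + 1 by omega, pow_succ, Nat.add_sub_cancel] at h1
      exact Nat.eq_of_mul_eq_mul_left (pow_pos two_pos _) h1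
    · left
      rw [hn]
      calc 2 ^ n ≤ 2 ^ 2 := Nat.pow_le_pow_right two_pos (by omega)
        _ = 4 := rfl

/-- All subgroups of such a group are two-generated. -/
theorem index_frattini_subgroup_le {G : Type*} [Group G] [Finite G] (hG : IsPGroup 2 G)
    (hZ : Nat.card G ≤ 4 ∨ ∃ Z : Subgroup G, IsCyclic Z ∧ Z.index = 2) (Q : Subgroup G) :
    (frattini Q).index ≤ 4 := by
  rcases hZ with h | ⟨Z, hZc, hZi⟩
  · exact index_frattini_le_card.trans ((Subgroup.card_le_card_group Q).trans h)
  haveI : IsCyclic ↥(Z.subgroupOf Q) := by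
    refine isCyclic_of_injective
      (({ toFun := fun q => (⟨((q : Q) : G), q.2⟩ : Z), map_one' := rfl,
          map_mul' := fun _ _ => rfl }) : ↥(Z.subgroupOf Q) →* Z) fun x y hxy => ?_
    exact Subtype.ext (Subtype.ext (congrArg (fun z : Z => (z : G)) hxy))
  haveI : Z.Normal := Subgroup.normal_of_index_eq_two hZi
  refine index_frattini_le_four_of_cyclic (hG.to_subgroup Q) (Z.subgroupOf Q) ?_
  exact (Nat.le_of_dvd (by omega) (Subgroup.relIndex_dvd_index_of_normal Z Q)).trans hZi.le

/-- A bound on the Frattini quotients of all subgroups bounds the sectional rank. -/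
theorem sectionalPRankLE_of_index {G : Type u} [Group G] [Finite G] {k : ℕ}
    (h : ∀ (L : Type u) [Group L] [Finite L] (ι : L →* G), Function.Injective ι →
      (frattini L).index ≤ 2 ^ k) : Cfsg.SectionalPRankLE 2 k G := by
  haveI : Fact (Nat.Prime 2) := ⟨Nat.prime_two⟩
  intro K N _ A hAc hA2
  set L := A.comap (QuotientGroup.mk' N)
  have hL := h ↥L (K.subtype.comp L.subtype) (K.subtype_injective.comp L.subtype_injective)
  let ψ : ↥L →* ↥A := ((QuotientGroup.mk' N).comp L.subtype).codRestrict A fun x => x.2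
  have hψ : Function.Surjective ψ := by
    rintro ⟨a, ha⟩
    obtain ⟨x, rfl⟩ := QuotientGroup.mk'_surjective N a
    exact ⟨⟨x, ha⟩, rfl⟩
  have hker : frattini ↥L ≤ ψ.ker := by
    refine frattini_le_of_elementary_quotient (p := 2) ?_ fun g => ?_
    · rw [commutator_def, Subgroup.commutator_le]
      intro x _ y _
      rw [MonoidHom.mem_ker, map_commutatorElement, commutatorElement_eq_one_iff_mul_comm]
      exact hAc.is_comm.comm _ _
    · rw [MonoidHom.mem_ker, map_pow]
      exact Subtype.ext (hA2 _ (ψ g).2)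
  have hcard : Nat.card A = ψ.ker.index := by
    rw [Subgroup.index_ker, MonoidHom.range_eq_top.2 hψ, Subgroup.card_top]
  rw [hcard]
  exact (Nat.le_of_dvd (Nat.pos_of_ne_zero Subgroup.index_ne_zero_of_finite)
    (Subgroup.index_dvd_of_le hker)).trans hL

end CfsgLib.PGroups.Harada
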