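import Cfsg.Agent.Lib.PGroups.Harada.Final
import Mathlib.GroupTheory.SpecificGroups.Quaternion

/-!
# Self-centralizing subgroups of order eight near a central product of two quaternion groups
-/

set_option autoImplicit false
set_option linter.unusedSectionVars false
set_option linter.style.haveILetI false

namespace CfsgLib.PGroups.Harada

open Subgroup
open scoped commutatorElement

variable {S : Type*} [Group S] [Finite S]

/-- A subgroup of order thirty-two with a central involution `z`, commutators and squares in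
`⟨z⟩`, and centralizer `⟨z⟩`, generated, as far as commutation goes, by four elements. -/
structure Extra (S : Type*) [Group S] where
  Q : Subgroup S
  card : Nat.card Q = 32
  z : S
  z1 : z ≠ 1
  z2 : z ^ 2 = 1
  zQ : z ∈ Q
  comm : ∀ q ∈ Q, ∀ r ∈ Q, ⁅q, r⁆ = 1 ∨ ⁅q, r⁆ = z
  sq : ∀ q ∈ Q, q ^ 2 = 1 ∨ q ^ 2 = z
  gen : Fin 4 → S
  genQ : ∀ i, gen i ∈ Q
  cent : ∀ c : S, (∀ i, Commute c (gen i)) → c = 1 ∨ c = z
  zcomm : ∀ i, Commute z (gen i)

namespace Extra

variable (E : Extra S)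

theorem z_central (hS : IsPGroup 2 S) (g : S) : Commute g E.z := by
  haveI : Fact (Nat.Prime 2) := ⟨Nat.prime_two⟩
  haveI : Nontrivial S := ⟨⟨E.z, 1, E.z1⟩⟩
  haveI := hS.center_nontrivial
  obtain ⟨⟨c, hc⟩, hc1⟩ := exists_ne (1 : center S)
  rcases E.cent c (fun i => (mem_center_iff.1 hc (E.gen i)).symm) with h | h
  · exact absurd (Subtype.ext h) hc1
  · rw [← h]
    exact mem_center_iff.1 hc g

theorem comm_mul_left (hS : IsPGroup 2 S) {x y n : S} (hy : ⁅y, n⁆ = 1 ∨ ⁅y, n⁆ = E.z) :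
    ⁅x * y, n⁆ = ⁅x, n⁆ * ⁅y, n⁆ := by
  have h : x * ⁅y, n⁆ * x⁻¹ = ⁅y, n⁆ := by
    rcases hy with h | h <;> rw [h]
    · group
    · rw [(E.z_central hS x).eq, mul_inv_cancel_right]
  have hc : Commute ⁅x, n⁆ ⁅y, n⁆ := by
    rcases hy with h' | h' <;> rw [h']
    · exact Commute.one_right _
    · exact E.z_central hS _
  rw [show ⁅x * y, n⁆ = x * ⁅y, n⁆ * x⁻¹ * ⁅x, n⁆ by simp only [commutatorElement_def]; group, h,
    hc.eq]

/-- An element moving every generator by a power of `z` lies in `Q`. -/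
theorem mem_of_moves (hS : IsPGroup 2 S) {n : S}
    (hn : ∀ i, ⁅n, E.gen i⁆ = 1 ∨ ⁅n, E.gen i⁆ = E.z) : n ∈ E.Q := by
  classical
  haveI := Fintype.ofFinite S
  set s : Finset S := Finset.univ.filter fun x => ∀ i, ⁅x, E.gen i⁆ = 1 ∨ ⁅x, E.gen i⁆ = E.z with hs
  have hle : s.card ≤ 32 := by
    set f : S → (Fin 4 → Bool) := fun x i => decide (⁅x, E.gen i⁆ = 1) with hf
    refine (Finset.card_le_mul_card_image (f := f) s 2 ?_).trans ?_
    · intro b hb
      obtain ⟨x₀, hx₀, rfl⟩ := Finset.mem_image.1 hb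
      refine (Finset.card_le_card (t := {x₀, x₀ * E.z}) ?_).trans Finset.card_le_two
      intro x hx
      rw [Finset.mem_filter] at hx
      simp only [hs, Finset.mem_filter, Finset.mem_univ, true_and] at hx hx₀
      have hc : ∀ i, Commute (x₀⁻¹ * x) (E.gen i) := by
        intro i
        have h1 : ⁅x, E.gen i⁆ = ⁅x₀, E.gen i⁆ := by
          have h := congrFun hx.2 i
          simp only [hf, decide_eq_decide] at h
          rcases hx.1 i with a | a <;> rcases hx₀ i with b | b <;> rw [a, b] <;>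
            simp_all [E.z1]
        have h2 : x * E.gen i * x⁻¹ = x₀ * E.gen i * x₀⁻¹ :=
          mul_right_cancel (b := (E.gen i)⁻¹) h1
        show x₀⁻¹ * x * E.gen i = E.gen i * (x₀⁻¹ * x)
        calc x₀⁻¹ * x * E.gen i = x₀⁻¹ * (x * E.gen i * x⁻¹) * x := by group
          _ = E.gen i * (x₀⁻¹ * x) := by rw [h2]; group
      rcases E.cent _ hc with h | h
      · simp [eq_of_inv_mul_eq_one h]
      · simp [inv_mul_eq_iff_eq_mul.1 h]
    · have := Finset.card_le_univ (s.image f)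
      rw [Fintype.card_fun, Fintype.card_bool, Fintype.card_fin] at this
      omega
  have hQ : (E.Q : Set S).toFinset ⊆ s := by
    intro x hx
    rw [Set.mem_toFinset] at hx
    simp only [hs, Finset.mem_filter, Finset.mem_univ, true_and]
    exact fun i => E.comm x hx _ (E.genQ i)
  have heq := Finset.eq_of_subset_of_card_le hQ (by
    rw [← Set.ncard_eq_toFinset_card' (E.Q : Set S)]
    change s.card ≤ Nat.card E.Q
    rw [E.card]
    exact hle)
  have : n ∈ (E.Q : Set S).toFinset := heq ▸ by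
    simp only [hs, Finset.mem_filter, Finset.mem_univ, true_and]; exact hn
  exact Set.mem_toFinset.1 this

variable (F : Eight S)

theorem N_le (hS : IsPGroup 2 S) : ∃ P : Subgroup S, P ≤ F.N ∧ F.N ≤ E.Q ∧ E.z ∈ P ∧
    Nat.card P = 4 := by
  haveI : Fact (Nat.Prime 2) := ⟨Nat.prime_two⟩
  obtain ⟨d, P, hdN, hd1, hdc, hPn, hdP, hPN, hPc⟩ := F.exists_flag hS
  have hdz : d = E.z := (E.cent d fun i => (mul_inv_eq_iff_eq_mul.1 (hdc (E.gen i))).symm).resolve_left hd1
  subst hdz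
  obtain ⟨p, hpP, hp1, hpz⟩ : ∃ p ∈ P, p ≠ 1 ∧ p ≠ E.z := by
    by_contra h
    simp only [not_exists, not_and, not_not] at h
    have := card_sub_le (X := P) (s := {1, E.z}) (k := 2) (fun x hx => by
      by_cases h1 : x = 1
      · exact Or.inl h1
      · exact Or.inr (h x hx h1)) ((Set.ncard_insert_le _ _).trans (by rw [Set.ncard_singleton]))
    omega
  have hP4 := four_mem hPc hdP hpP E.z1 hp1 (Ne.symm hpz) E.z2 (F.sq p (hPN hpP))
  have hpQ : p ∈ E.Q := by
    refine E.mem_of_moves hS fun i => ?_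
    rcases hP4 _ (hPn.conj_mem p hpP (E.gen i)) with h | h | h | h
    · exact absurd (conj_eq_one_iff.1 h) hp1
    · rw [← hdc (E.gen i)] at h
      exact absurd (mul_left_cancel (mul_right_cancel h)) hpz
    · left
      exact commutatorElement_eq_one_iff_mul_comm.2 (mul_inv_eq_iff_eq_mul.1 h).symm
    · right
      calc ⁅p, E.gen i⁆ = p * (E.gen i * p * (E.gen i)⁻¹)⁻¹ := by
            rw [commutatorElement_def]; group
        _ = p * (p⁻¹ * E.z⁻¹) := by rw [h, mul_inv_rev]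
        _ = E.z := by rw [mul_inv_cancel_left, inv_eq_iff_mul_eq_one, ← pow_two, E.z2]
  have hPi : (P.subgroupOf F.N).index = 2 := by
    have h1 := (P.subgroupOf F.N).card_mul_index
    rw [Nat.card_congr (Subgroup.subgroupOfEquivOfLe hPN).toEquiv, hPc, F.card] at h1
    omega
  refine ⟨P, hPN, fun n hn => ?_, hdP, hPc⟩
  by_cases hnP : n ∈ P
  · rcases hP4 n hnP with rfl | rfl | rfl | rfl
    exacts [one_mem _, E.zQ, hpQ, mul_mem E.zQ hpQ]
  have hnq : ∀ q : S, ⁅n, q⁆ ∈ P := by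
    intro q
    have h1 : (⟨n, hn⟩ * ⟨q * n⁻¹ * q⁻¹, F.conj_mem q (inv_mem hn)⟩ : F.N) ∈ P.subgroupOf F.N := by
      rw [Subgroup.mul_mem_iff_of_index_two hPi, Subgroup.mem_subgroupOf, Subgroup.mem_subgroupOf]
      refine iff_of_false hnP fun h => hnP ?_
      have h2 := inv_mem (hPn.conj_mem _ h q⁻¹)
      rwa [show (q⁻¹ * (q * n⁻¹ * q⁻¹) * q⁻¹⁻¹)⁻¹ = n by group] at h2
    rw [Subgroup.mem_subgroupOf] at h1
    rwa [show ⁅n, q⁆ = n * (q * n⁻¹ * q⁻¹) by rw [commutatorElement_def]; group]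
  -- where `q` does not commute with `p`, `n` moves `q` by a power of `z`
  have hnp : ∀ q ∈ E.Q, ¬ Commute q p → ⁅n, q⁆ = 1 ∨ ⁅n, q⁆ = E.z := by
    intro q hq hqp
    have hsq : (⁅n, q⁆ * q) ^ 2 = q ^ 2 := by
      rw [commutatorElement_def, inv_mul_cancel_right, conj_pow]
      rcases E.sq q hq with h | h <;> rw [h]
      · group
      · rw [(E.z_central hS n).eq, mul_inv_cancel_right]
    rcases hP4 _ (hnq q) with h | h | h | h
    · exact Or.inl h
    · exact Or.inr h
    all_goals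
      exfalso
      refine hqp ?_
      rw [h, pow_two, pow_two, ← mul_assoc] at hsq
      have h' := mul_right_cancel hsq
    · show q * p = p * q
      calc q * p = p⁻¹ * (p * q * p) := by group
        _ = p * q := by rw [h', F.inv_eq (hPN hpP)]
    · have hzz : E.z * E.z = 1 := by rw [← pow_two, E.z2]
      have hc := (E.z_central hS q).eq
      have h'' : E.z * E.z * (p * q * p) = q := by
        rw [show E.z * E.z * (p * q * p) = E.z * p * q * (E.z * p) by
          rw [show E.z * p * q * (E.z * p) = E.z * p * (q * E.z) * p by group, hc,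
            show E.z * p * (E.z * q) * p = E.z * (p * E.z) * q * p by group,
            (E.z_central hS p).eq]
          group]
        exact h'
      rw [hzz, one_mul] at h''
      show q * p = p * q
      calc q * p = p⁻¹ * (p * q * p) := by group
        _ = p * q := by rw [h'', F.inv_eq (hPN hpP)]
  obtain ⟨r, hr, hrp⟩ : ∃ r ∈ E.Q, ¬ Commute r p := by
    by_contra h
    simp only [not_exists, not_and, not_not] at h
    rcases E.cent p fun i => (h _ (E.genQ i)).symm with h' | h'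
    exacts [hp1 h', hpz h']
  refine E.mem_of_moves hS fun i => ?_
  by_cases hc : Commute (E.gen i) p
  · have h1 := hnp (E.gen i * r) (mul_mem (E.genQ i) hr) fun h => hrp (by
      have := hc.inv_left.mul_left h
      rwa [inv_mul_cancel_left] at this)
    have h2 := hnp r hr hrp
    have h3 : ⁅n, E.gen i * r⁆ = ⁅n, E.gen i⁆ * ⁅n, r⁆ := by
      rw [show ⁅n, E.gen i * r⁆ = ⁅n, E.gen i⁆ * (E.gen i * ⁅n, r⁆ * (E.gen i)⁻¹) by
        simp only [commutatorElement_def]; group]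
      rcases h2 with h | h <;> rw [h]
      · group
      · rw [(E.z_central hS _).eq, mul_inv_cancel_right]
    have hzz : E.z * E.z = 1 := by rw [← pow_two, E.z2]
    rw [h3] at h1
    rcases h1 with h1 | h1 <;> rcases h2 with h2 | h2 <;> rw [h2] at h1
    · exact Or.inl (by rwa [mul_one] at h1)
    · exact Or.inr (by rw [eq_inv_of_mul_eq_one_left h1, inv_eq_iff_mul_eq_one, hzz])
    · exact Or.inr (by rwa [mul_one] at h1)
    · exact Or.inl (mul_eq_right.1 h1)
  · exact hnp _ (E.genQ i) hc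

include E F in
/-- There is a self-centralizing elementary abelian subgroup of order eight. -/
theorem exists_selfCent (hS : IsPGroup 2 S) : Nonempty (SelfCent S) := by
  classical
  haveI : Fact (Nat.Prime 2) := ⟨Nat.prime_two⟩
  obtain ⟨P, hPN, hNQ, hzP, hPc⟩ := E.N_le F hS
  obtain ⟨n1, hn1P, hn11, hn1z⟩ : ∃ p ∈ P, p ≠ 1 ∧ p ≠ E.z := by
    by_contra h
    simp only [not_exists, not_and, not_not] at h
    have := card_sub_le (X := P) (s := {1, E.z}) (k := 2) (fun x hx => by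
      by_cases h1 : x = 1
      · exact Or.inl h1
      · exact Or.inr (h x hx h1)) ((Set.ncard_insert_le _ _).trans (by rw [Set.ncard_singleton]))
    omega
  obtain ⟨n2, hn2N, hn2P⟩ := F.exists_notMem (X := P) (by omega)
  have hn1Q := hNQ (hPN hn1P)
  have hn2Q := hNQ hn2N
  have hP4 := four_mem hPc hzP hn1P E.z1 hn11 (Ne.symm hn1z) E.z2 (F.sq n1 (hPN hn1P))
  have hzz : E.z * E.z = 1 := by rw [← pow_two, E.z2]
  have hex : ∀ n ∈ E.Q, n ≠ 1 → n ≠ E.z → ∃ q ∈ E.Q, ⁅q, n⁆ = E.z := by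
    intro n hn h1 h2
    by_contra h
    simp only [not_exists, not_and] at h
    rcases E.cent n fun i => (commutatorElement_eq_one_iff_mul_comm.1
      ((E.comm _ (E.genQ i) n hn).resolve_right (h _ (E.genQ i)))).symm with h' | h'
    exacts [h1 h', h2 h']
  obtain ⟨r, hr, hr1⟩ := hex n1 hn1Q hn11 hn1z
  obtain ⟨w, hw, hw2⟩ := hex n2 hn2Q (fun h => hn2P (h ▸ one_mem _)) (fun h => hn2P (h ▸ hzP))
  have h12 : n1 * n2 ∉ P := fun h => hn2P (by
    have := mul_mem (inv_mem hn1P) h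
    rwa [inv_mul_cancel_left] at this)
  obtain ⟨m, hm, hm12⟩ := hex (n1 * n2) (mul_mem hn1Q hn2Q) (fun h => h12 (h ▸ one_mem _))
    (fun h => h12 (h ▸ hzP))
  have hml : ∀ x, ∀ y ∈ E.Q, ∀ n ∈ E.Q, ⁅x * y, n⁆ = ⁅x, n⁆ * ⁅y, n⁆ := fun x y hy n hn =>
    E.comm_mul_left hS (E.comm y hy n hn)
  have hmr : ∀ x ∈ E.Q, ∀ a : S, ∀ b ∈ E.Q, ⁅x, a * b⁆ = ⁅x, a⁆ * ⁅x, b⁆ := by
    intro x hx a b hb
    rw [show ⁅x, a * b⁆ = ⁅x, a⁆ * (a * ⁅x, b⁆ * a⁻¹) by simp only [commutatorElement_def]; group]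
    rcases E.comm x hx b hb with h | h <;> rw [h]
    · group
    · rw [(E.z_central hS a).eq, mul_inv_cancel_right]
  -- dual elements
  obtain ⟨u₀, hu₀, hu₀1, hu₀2, v₀, hv₀, hv₀1, hv₀2⟩ : ∃ u ∈ E.Q, ⁅u, n1⁆ = E.z ∧ ⁅u, n2⁆ = 1 ∧
      ∃ v ∈ E.Q, ⁅v, n1⁆ = 1 ∧ ⁅v, n2⁆ = E.z := by
    rcases E.comm r hr n2 hn2Q with hr2 | hr2
    · refine ⟨r, hr, hr1, hr2, ?_⟩
      rcases E.comm w hw n1 hn1Q with hw1 | hw1
      · exact ⟨w, hw, hw1, hw2⟩
      · exact ⟨r * w, mul_mem hr hw, by rw [hml r w hw n1 hn1Q, hr1, hw1, hzz],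
          by rw [hml r w hw n2 hn2Q, hr2, hw2, one_mul]⟩
    · rcases E.comm w hw n1 hn1Q with hw1 | hw1
      · exact ⟨r * w, mul_mem hr hw, by rw [hml r w hw n1 hn1Q, hr1, hw1, mul_one],
          by rw [hml r w hw n2 hn2Q, hr2, hw2, hzz], w, hw, hw1, hw2⟩
      · rw [hmr m hm n1 n2 hn2Q] at hm12
        rcases E.comm m hm n1 hn1Q with hm1 | hm1
        · have hm2 : ⁅m, n2⁆ = E.z := by rwa [hm1, one_mul] at hm12
          exact ⟨r * m, mul_mem hr hm, by rw [hml r m hm n1 hn1Q, hr1, hm1, mul_one],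
            by rw [hml r m hm n2 hn2Q, hr2, hm2, hzz], m, hm, hm1, hm2⟩
        · have hm2 : ⁅m, n2⁆ = 1 := by
            rw [hm1] at hm12; exact mul_eq_left.1 hm12
          exact ⟨m, hm, hm1, hm2, r * m, mul_mem hr hm,
            by rw [hml r m hm n1 hn1Q, hr1, hm1, hzz],
            by rw [hml r m hm n2 hn2Q, hr2, hm2, mul_one]⟩
  have hnn : ∀ a b, a ∈ F.N → b ∈ F.N → ⁅a, b⁆ = 1 := fun a b ha hb =>
    commutatorElement_eq_one_iff_mul_comm.2 (F.comm a ha b hb)
  -- adjust to involutions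
  have adj : ∀ (u n : S), u ∈ E.Q → n ∈ F.N → ⁅u, n⁆ = E.z →
      ∃ u' ∈ E.Q, u' ^ 2 = 1 ∧ ∀ m ∈ F.N, ⁅u', m⁆ = ⁅u, m⁆ := by
    intro u n hu hn hun
    rcases E.sq u hu with h | h
    · exact ⟨u, hu, h, fun _ _ => rfl⟩
    · refine ⟨u * n, mul_mem hu (hNQ hn), ?_, fun m hm => by
        rw [hml u n (hNQ hn) m (hNQ hm), hnn n m hn hm, mul_one]⟩
      have hnu : u * n * u⁻¹ = E.z * n := by rw [← hun, commutatorElement_def, inv_mul_cancel_right]
      calc (u * n) ^ 2 = u * n * u⁻¹ * (u ^ 2) * n := by rw [pow_two, pow_two]; group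
        _ = E.z * n * E.z * n := by rw [hnu, h]
        _ = (E.z * E.z) * (n ^ 2) := by
            rw [show E.z * n * E.z * n = E.z * (n * E.z) * n by group, (E.z_central hS n).eq, pow_two]
            group
        _ = 1 := by rw [hzz, F.sq n hn, one_mul]
  obtain ⟨v, hv, hvsq, hvm⟩ := adj v₀ n2 hv₀ hn2N hv₀2
  obtain ⟨u₁, hu₁, hu₁sq, hu₁m⟩ := adj u₀ n1 hu₀ (hPN hn1P) hu₀1
  have hv1 : ⁅v, n1⁆ = 1 := (hvm n1 (hPN hn1P)).trans hv₀1
  have hv2 : ⁅v, n2⁆ = E.z := (hvm n2 hn2N).trans hv₀2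
  obtain ⟨u, hu, husq, hu1, hu2, huv⟩ : ∃ u ∈ E.Q, u ^ 2 = 1 ∧ ⁅u, n1⁆ = E.z ∧ ⁅u, n2⁆ = 1 ∧
      Commute u v := by
    have hu1 : ⁅u₁, n1⁆ = E.z := (hu₁m n1 (hPN hn1P)).trans hu₀1
    have hu2 : ⁅u₁, n2⁆ = 1 := (hu₁m n2 hn2N).trans hu₀2
    rcases E.comm u₁ hu₁ v hv with h | h
    · exact ⟨u₁, hu₁, hu₁sq, hu1, hu2, commutatorElement_eq_one_iff_mul_comm.1 h⟩
    · refine ⟨u₁ * n2, mul_mem hu₁ hn2Q, ?_, by rw [hml u₁ n2 hn2Q n1 hn1Q, hu1,
        hnn n2 n1 hn2N (hPN hn1P), mul_one], by rw [hml u₁ n2 hn2Q n2 hn2Q, hu2, hnn n2 n2 hn2N hn2N,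
        mul_one], commutatorElement_eq_one_iff_mul_comm.1 ?_⟩
      · rw [(show Commute u₁ n2 from commutatorElement_eq_one_iff_mul_comm.1 hu2).mul_pow, hu₁sq,
          F.sq n2 hn2N, one_mul]
      · have h2 : ⁅n2, v⁆ = E.z := by
          rw [← commutatorElement_inv, hv2, inv_eq_iff_mul_eq_one, hzz]
        rw [E.comm_mul_left hS (Or.inr h2), h, h2, hzz]
  have hzC : ∀ g, Commute g E.z := E.z_central hS
  -- elements of `N` commuting with `u` and `v`
  have hNuv : ∀ n ∈ F.N, ⁅u, n⁆ = 1 → ⁅v, n⁆ = 1 → n = 1 ∨ n = E.z := by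
    intro n hn hun hvn
    have hPv : ∀ x ∈ P, ⁅v, x⁆ = 1 := by
      intro x hx
      rcases hP4 x hx with rfl | rfl | rfl | rfl
      · exact commutatorElement_one_right v
      · exact commutatorElement_eq_one_iff_mul_comm.2 (hzC v).eq
      · exact hv1
      · exact commutatorElement_eq_one_iff_mul_comm.2
          ((hzC v).mul_right (commutatorElement_eq_one_iff_mul_comm.1 hv1)).eq
    by_cases hnP : n ∈ P
    · rcases hP4 n hnP with rfl | rfl | rfl | rfl
      · exact Or.inl rfl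
      · exact Or.inr rfl
      · exact absurd (hu1.symm.trans hun) E.z1
      · rw [hmr u hu E.z n1 hn1Q, hu1, commutatorElement_eq_one_iff_mul_comm.2 (hzC u).eq, one_mul]
          at hun
        exact absurd hun E.z1
    · exfalso
      have hPi : (P.subgroupOf F.N).index = 2 := by
        have h1 := (P.subgroupOf F.N).card_mul_index
        rw [Nat.card_congr (Subgroup.subgroupOfEquivOfLe hPN).toEquiv, hPc, F.card] at h1
        omega
      have h1 : (⟨n, hn⟩ * ⟨n2, hn2N⟩ : F.N) ∈ P.subgroupOf F.N := by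
        rw [Subgroup.mul_mem_iff_of_index_two hPi, Subgroup.mem_subgroupOf, Subgroup.mem_subgroupOf]
        exact iff_of_false hnP hn2P
      have h2 : ⁅v, n * n2⁆ = 1 := hPv _ h1
      rw [hmr v hv n n2 hn2Q, hvn, hv2, one_mul] at h2
      exact E.z1 h2
  set f : Fin 2 × Fin 2 × Fin 2 → S := fun t => E.z ^ (t.1 : ℕ) * u ^ (t.2.1 : ℕ) * v ^ (t.2.2 : ℕ)
    with hf
  have hfQ : ∀ t, f t ∈ E.Q := fun t =>
    mul_mem (mul_mem (pow_mem E.zQ _) (pow_mem hu _)) (pow_mem hv _)
  have hfcomm : ∀ t, Commute (f t) u ∧ Commute (f t) v := fun t =>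
    ⟨(((hzC u).symm.pow_left _).mul_left ((Commute.refl u).pow_left _)).mul_left
        (huv.symm.pow_left _),
      (((hzC v).symm.pow_left _).mul_left (huv.pow_left _)).mul_left ((Commute.refl v).pow_left _)⟩
  have hval : ∀ t, ⁅f t, n1⁆ = E.z ^ (t.2.1 : ℕ) ∧ ⁅f t, n2⁆ = E.z ^ (t.2.2 : ℕ) := by
    rintro ⟨i, j, k⟩
    have hz1 : ∀ n : S, ⁅E.z ^ (i : ℕ), n⁆ = 1 := fun n =>
      commutatorElement_eq_one_iff_mul_comm.2 ((hzC n).symm.pow_left _).eq
    simp only [hf]
    rw [hml _ _ (pow_mem hv _) n1 hn1Q, hml _ _ (pow_mem hv _) n2 hn2Q,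
      hml _ _ (pow_mem hu _) n1 hn1Q, hml _ _ (pow_mem hu _) n2 hn2Q, hz1, hz1, one_mul, one_mul]
    fin_cases j <;> fin_cases k <;> simp [hu1, hu2, hv1, hv2]
  let A : Subgroup S := E.Q ⊓ centralizer ({u, v} : Set S)
  have hA : ∀ x ∈ A, x ∈ E.Q ∧ Commute x u ∧ Commute x v := fun x hx =>
    ⟨hx.1, (mem_centralizer_iff.1 hx.2 u (Or.inl rfl)).symm,
      (mem_centralizer_iff.1 hx.2 v (Or.inr rfl)).symm⟩
  have hfA : ∀ t, f t ∈ A := fun t => ⟨hfQ t, mem_centralizer_iff.2 (by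
    rintro _ (rfl | rfl)
    exacts [(hfcomm t).1.symm.eq, (hfcomm t).2.symm.eq])⟩
  have hinj : Function.Injective f := by
    rintro ⟨i, j, k⟩ ⟨i', j', k'⟩ h
    have e1 := (hval (i, j, k)).1.symm.trans ((congrArg (fun x => ⁅x, n1⁆) h).trans (hval (i', j', k')).1)
    have e2 := (hval (i, j, k)).2.symm.trans ((congrArg (fun x => ⁅x, n2⁆) h).trans (hval (i', j', k')).2)
    have key : ∀ a b : Fin 2, E.z ^ (a : ℕ) = E.z ^ (b : ℕ) → a = b := by
      intro a b hab
      fin_cases a <;> fin_cases b <;> simp [E.z1, E.z1.symm] at hab ⊢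
    obtain rfl := key _ _ e1
    obtain rfl := key _ _ e2
    obtain rfl := key _ _ (mul_right_cancel (mul_right_cancel h))
    rfl
  -- `Q` is covered by the translates of `N`
  have hcov : ∀ q ∈ E.Q, ∃ (a b : Fin 2) (n : F.N), f (0, a, b) * (n : S) = q := by
    intro q hq
    have hcov' : q ∈ Set.range fun p : Fin 2 × Fin 2 × ↥F.N => f (0, p.1, p.2.1) * (p.2.2 : S) := by
      have hi : Function.Injective
          fun p : Fin 2 × Fin 2 × ↥F.N => f (0, p.1, p.2.1) * (p.2.2 : S) := by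
        rintro ⟨a, b, n⟩ ⟨a', b', n'⟩ h
        have hv' : ∀ (a b : Fin 2) (n : F.N),
            ⁅f (0, a, b) * (n : S), n1⁆ = E.z ^ (a : ℕ) ∧ ⁅f (0, a, b) * (n : S), n2⁆ = E.z ^ (b : ℕ) :=
          fun a b n => ⟨by rw [hml _ _ (hNQ n.2) n1 hn1Q, (hval (0, a, b)).1,
            hnn _ n1 n.2 (hPN hn1P), mul_one],
            by rw [hml _ _ (hNQ n.2) n2 hn2Q, (hval (0, a, b)).2, hnn _ n2 n.2 hn2N, mul_one]⟩
        have key : ∀ a b : Fin 2, E.z ^ (a : ℕ) = E.z ^ (b : ℕ) → a = b := by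
          intro a b hab
          fin_cases a <;> fin_cases b <;> simp [E.z1, E.z1.symm] at hab ⊢
        simp only at h
        obtain rfl := key _ _ ((hv' a b n).1.symm.trans ((congrArg (fun x => ⁅x, n1⁆) h).trans (hv' a' b' n').1))
        obtain rfl := key _ _ ((hv' a b n).2.symm.trans ((congrArg (fun x => ⁅x, n2⁆) h).trans (hv' a b' n').2))
        rw [Subtype.ext (mul_left_cancel h) (a1 := n) (a2 := n')]
      have heq : (Set.range fun p : Fin 2 × Fin 2 × ↥F.N => f (0, p.1, p.2.1) * (p.2.2 : S)) =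
          (E.Q : Set S) := Set.eq_of_subset_of_ncard_le
        (Set.range_subset_iff.2 fun p => mul_mem (hfQ _) (hNQ p.2.2.2)) (by
          rw [← Nat.card_coe_set_eq (Set.range _), Nat.card_range_of_injective hi, Nat.card_prod,
            Nat.card_prod, Nat.card_fin, F.card]
          change Nat.card E.Q ≤ _
          rw [E.card]) (Set.toFinite _)
      rw [heq]; exact hq
    obtain ⟨⟨a, b, n⟩, h⟩ := hcov'
    exact ⟨a, b, n, h⟩
  -- every element of `A` is one of these
  have hrange : ∀ x ∈ A, ∃ t, f t = x := by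
    intro x hx
    obtain ⟨hxQ, hxu, hxv⟩ := hA x hx
    obtain ⟨j, hj⟩ : ∃ j : Fin 2, ⁅x, n1⁆ = E.z ^ (j : ℕ) :=
      (E.comm x hxQ n1 hn1Q).elim (fun h => ⟨0, by simpa using h⟩) fun h => ⟨1, by simpa using h⟩
    obtain ⟨k, hk⟩ : ∃ k : Fin 2, ⁅x, n2⁆ = E.z ^ (k : ℕ) :=
      (E.comm x hxQ n2 hn2Q).elim (fun h => ⟨0, by simpa using h⟩) fun h => ⟨1, by simpa using h⟩
    set y := (f (0, j, k))⁻¹ * x with hy
    have hyQ : y ∈ E.Q := mul_mem (inv_mem (hfQ _)) hxQ
    have hxy : x = f (0, j, k) * y := (mul_inv_cancel_left _ _).symm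
    have hy1 : ⁅y, n1⁆ = 1 := by
      have h := hml (f (0, j, k)) y hyQ n1 hn1Q
      rw [← hxy, hj, (hval (0, j, k)).1] at h
      exact mul_eq_left.1 h.symm
    have hy2 : ⁅y, n2⁆ = 1 := by
      have h := hml (f (0, j, k)) y hyQ n2 hn2Q
      rw [← hxy, hk, (hval (0, j, k)).2] at h
      exact mul_eq_left.1 h.symm
    have hyu : Commute y u := (hfcomm (0, j, k)).1.inv_left.mul_left hxu
    have hyv : Commute y v := (hfcomm (0, j, k)).2.inv_left.mul_left hxv
    -- `y` commutes with `N` and with `u`, `v`, so with `Q`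
    have hall : ∀ q ∈ E.Q, ⁅q, y⁆ = 1 := by
      intro q hq
      obtain ⟨a, b, n, rfl⟩ := hcov q hq
      refine commutatorElement_eq_one_iff_mul_comm.2 (Commute.mul_left ?_ ?_).eq
      · simp only [hf]
        exact ((((hzC y).symm.pow_left _)).mul_left (hyu.symm.pow_left _)).mul_left
          (hyv.symm.pow_left _)
      · have hXN : F.N ≤ centralizer ({y} : Set S) := by
          intro e he
          have hPy : ∀ x ∈ P, Commute x y := by
            intro x hx
            rcases hP4 x hx with rfl | rfl | rfl | rfl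
            · exact Commute.one_left y
            · exact (hzC y).symm
            · exact (commutatorElement_eq_one_iff_mul_comm.1 hy1 : Commute y x).symm
            · exact (hzC y).symm.mul_left (commutatorElement_eq_one_iff_mul_comm.1 hy1 : Commute y n1).symm
          refine mem_centralizer_singleton_iff.2 ?_
          by_cases heP : e ∈ P
          · exact (hPy e heP).eq
          have hPi : (P.subgroupOf F.N).index = 2 := by
            have h1 := (P.subgroupOf F.N).card_mul_index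
            rw [Nat.card_congr (Subgroup.subgroupOfEquivOfLe hPN).toEquiv, hPc, F.card] at h1
            omega
          have h1 : (⟨e, he⟩ * ⟨n2, hn2N⟩ : F.N) ∈ P.subgroupOf F.N := by
            rw [Subgroup.mul_mem_iff_of_index_two hPi, Subgroup.mem_subgroupOf,
              Subgroup.mem_subgroupOf]
            exact iff_of_false heP hn2P
          have h2 : Commute (e * n2) y := hPy _ h1
          have h3 := h2.mul_left (Commute.inv_left (show Commute n2 y from (commutatorElement_eq_one_iff_mul_comm.1 hy2).symm))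
          rw [mul_inv_cancel_right] at h3
          exact h3.eq
        exact mem_centralizer_singleton_iff.1 (hXN n.2)
    rcases E.cent y fun i => (commutatorElement_eq_one_iff_mul_comm.1 (hall _ (E.genQ i))).symm
      with h | h
    · exact ⟨(0, j, k), by rw [hxy, h, mul_one]⟩
    · refine ⟨(1, j, k), ?_⟩
      rw [hxy, h, (hzC (f (0, j, k))).eq]
      simp only [hf]
      simp [mul_assoc]
  have hcomm : ∀ t t', Commute (f t) (f t') := fun t t' =>
    (((hzC (f t)).pow_right _).mul_right ((hfcomm t).1.pow_right _)).mul_right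
      ((hfcomm t).2.pow_right _)
  refine ⟨⟨A, fun x hx y hy => ?_, fun x hx => ?_, ?_, fun c hc => ?_⟩⟩
  · obtain ⟨t, rfl⟩ := hrange x hx
    obtain ⟨t', rfl⟩ := hrange y hy
    exact (hcomm t t').eq
  · obtain ⟨⟨i, j, k⟩, rfl⟩ := hrange x hx
    simp only [hf]
    rw [Commute.mul_pow ((((hzC v).symm.pow_left _)).mul_left (huv.pow_left _) |>.pow_right _),
      Commute.mul_pow (((hzC u).symm.pow_left _).pow_right _), ← pow_mul, ← pow_mul, ← pow_mul,
      mul_comm (i : ℕ), mul_comm (j : ℕ), mul_comm (k : ℕ), pow_mul, pow_mul, pow_mul, E.z2, husq,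
      hvsq, one_pow, one_pow, one_pow, one_mul, one_mul]
  · have heq : Set.range f = (A : Set S) :=
      Set.ext fun x => ⟨fun ⟨t, ht⟩ => ht ▸ hfA t, hrange x⟩
    change Nat.card ↥((A : Set S)) = 8
    rw [← heq, Nat.card_range_of_injective hinj, Nat.card_prod, Nat.card_prod, Nat.card_fin]
  · have hcu : Commute c u := (hc _ (show u ∈ A from ⟨hu, mem_centralizer_iff.2 (by
      rintro _ (rfl | rfl); exacts [rfl, huv.symm.eq])⟩)).symm
    have hcv : Commute c v := (hc _ (show v ∈ A from ⟨hv, mem_centralizer_iff.2 (by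
      rintro _ (rfl | rfl); exacts [huv.eq, rfl])⟩)).symm
    have hcN : ∀ n ∈ F.N, ⁅c, n⁆ = 1 ∨ ⁅c, n⁆ = E.z := by
      intro n hn
      have hm : ⁅c, n⁆ ∈ F.N := mul_mem (F.conj_mem c hn) (inv_mem hn)
      have key : ∀ w ∈ E.Q, Commute c w → ⁅w, ⁅c, n⁆⁆ = 1 := by
        intro w hwQ hcw
        have hval : ⁅w, c * n * c⁻¹⁆ = ⁅w, n⁆ := by
          have h1 : c * ⁅w, n⁆ * c⁻¹ = ⁅w, n⁆ := by
            rcases E.comm w hwQ n (hNQ hn) with h | h <;> rw [h]
            · group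
            · rw [(hzC c).eq, mul_inv_cancel_right]
          conv_rhs => rw [← h1]
          rw [show c * ⁅w, n⁆ * c⁻¹ = ⁅c * w * c⁻¹, c * n * c⁻¹⁆ by
            simp only [commutatorElement_def]; group, hcw.eq, mul_inv_cancel_right]
        rw [commutatorElement_def c n, hmr w hwQ (c * n * c⁻¹) n⁻¹ (inv_mem (hNQ hn)), hval,
          F.inv_eq hn]
        rcases E.comm w hwQ n (hNQ hn) with h | h <;> rw [h]
        · rw [one_mul]
        · exact hzz
      exact hNuv _ hm (key u hu hcu) (key v hv hcv)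
    have hcQ : c ∈ E.Q := by
      refine E.mem_of_moves hS fun i => ?_
      obtain ⟨a, b, n, hq⟩ := hcov _ (E.genQ i)
      have hcf : Commute c (f (0, a, b)) :=
        ((((hzC c).pow_right _)).mul_right (hcu.pow_right _)).mul_right (hcv.pow_right _)
      have h1 : ⁅c, f (0, a, b) * (n : S)⁆ = ⁅c, (n : S)⁆ := by
        rw [show ⁅c, f (0, a, b) * (n : S)⁆ =
            ⁅c, f (0, a, b)⁆ * (f (0, a, b) * ⁅c, (n : S)⁆ * (f (0, a, b))⁻¹) by
          simp only [commutatorElement_def]; group,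
          commutatorElement_eq_one_iff_mul_comm.2 hcf.eq, one_mul]
        rcases hcN n n.2 with h | h <;> rw [h]
        · group
        · rw [(hzC _).eq, mul_inv_cancel_right]
      rw [← hq, h1]
      exact hcN n n.2
    exact ⟨hcQ, mem_centralizer_iff.2 (by rintro _ (rfl | rfl); exacts [hcu.symm.eq, hcv.symm.eq])⟩

end Extra

end CfsgLib.PGroups.Harada
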