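import Cfsg.Agent.Lib.PGroups.Harada.Count

/-!
# The action of a two-group on a normal elementary abelian subgroup of order eight
-/

set_option autoImplicit false
set_option linter.unusedSectionVars false
set_option linter.style.haveILetI false

namespace CfsgLib.PGroups.Harada

open Subgroup
open scoped commutatorElement

/-- A normal elementary abelian subgroup of order eight. -/
structure Eight (S : Type*) [Group S] where
  N : Subgroup S
  normal : N.Normal
  comm : ∀ x ∈ N, ∀ y ∈ N, x * y = y * x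
  sq : ∀ x ∈ N, x ^ 2 = 1
  card : Nat.card N = 8

variable {S : Type*} [Group S] [Finite S]

theorem four_mem {X : Subgroup S} (hX : Nat.card X = 4) {u v : S} (hu : u ∈ X) (hv : v ∈ X)
    (hu1 : u ≠ 1) (hv1 : v ≠ 1) (huv : u ≠ v) (hu2 : u ^ 2 = 1) (hv2 : v ^ 2 = 1) :
    ∀ x ∈ X, x = 1 ∨ x = u ∨ x = v ∨ x = u * v := by
  classical
  have h3 : u * v ≠ 1 := fun h => huv (by
    rw [eq_inv_of_mul_eq_one_left h, inv_eq_iff_mul_eq_one, ← pow_two, hv2])
  have h4 : u ≠ u * v := fun h => hv1 (mul_eq_left.1 h.symm)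
  have h5 : v ≠ u * v := fun h => hu1 (mul_eq_right.1 h.symm)
  set T : Finset S := {1, u, v, u * v}
  have hT : T.card = 4 := by
    simp only [T]
    rw [Finset.card_insert_of_notMem (by simp [Ne.symm hu1, Ne.symm hv1, Ne.symm h3]),
      Finset.card_insert_of_notMem (by simp [huv, hv1]),
      Finset.card_insert_of_notMem (by simp [hu1]), Finset.card_singleton]
  have hsub : (T : Set S) ⊆ (X : Set S) := by
    intro x hx
    simp only [T, Finset.coe_insert, Finset.coe_singleton, Set.mem_insert_iff,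
      Set.mem_singleton_iff] at hx
    rcases hx with rfl | rfl | rfl | rfl
    exacts [one_mem _, hu, hv, mul_mem hu hv]
  have heq : (T : Set S) = (X : Set S) := Set.eq_of_subset_of_ncard_le hsub
    (by rw [Set.ncard_coe_finset, hT]; exact le_of_eq hX) (Set.toFinite _)
  intro x hx
  have hxT : x ∈ (T : Set S) := heq.symm ▸ hx
  simpa [T] using hxT

namespace Eight

variable (F : Eight S)

/-- The centralizer of the normal subgroup. -/
def C : Subgroup S := centralizer (F.N : Set S)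

instance : F.N.Normal := F.normal

instance : F.C.Normal := inferInstanceAs (centralizer (F.N : Set S)).Normal

theorem mem_C {x : S} : x ∈ F.C ↔ ∀ e ∈ F.N, e * x = x * e := mem_centralizer_iff

theorem N_le_C : F.N ≤ F.C := fun x hx => F.mem_C.2 fun e he => F.comm e he x hx

theorem inv_eq {x : S} (hx : x ∈ F.N) : x⁻¹ = x := by
  rw [inv_eq_iff_mul_eq_one, ← pow_two, F.sq x hx]

theorem conj_C {x e : S} (hx : x ∈ F.C) (he : e ∈ F.N) : x * e * x⁻¹ = e := by
  rw [← F.mem_C.1 hx e he, mul_inv_cancel_right]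

theorem conj_mem (g : S) {e : S} (he : e ∈ F.N) : g * e * g⁻¹ ∈ F.N :=
  F.normal.conj_mem e he g

/-- An element fixing more than four elements of `N` centralizes it. -/
theorem mem_C_of_fixed {g : S} (h : 4 < Nat.card ↥(F.N ⊓ centralizer ({g} : Set S))) :
    g ∈ F.C := by
  have he := eq_of_lt_two_mul (inf_le_left : F.N ⊓ centralizer ({g} : Set S) ≤ F.N) (k := 2)
    (by rw [F.card]; rfl) (by simpa using h)
  refine F.mem_C.2 fun e hee => ?_
  have : e ∈ F.N ⊓ centralizer ({g} : Set S) := he.symm ▸ hee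
  exact mem_centralizer_singleton_iff.1 this.2

/-- A central flag: `1 < ⟨d⟩ < P < N` with `P` normal. -/
theorem exists_flag (hS : IsPGroup 2 S) : ∃ (d : S) (P : Subgroup S), d ∈ F.N ∧ d ≠ 1 ∧
    (∀ g, g * d * g⁻¹ = d) ∧ P.Normal ∧ d ∈ P ∧ P ≤ F.N ∧ Nat.card P = 4 := by
  haveI : Fact (Nat.Prime 2) := ⟨Nat.prime_two⟩
  have hN : F.N ≠ ⊥ := fun h => by
    have := F.card
    rw [h, Subgroup.card_bot] at this
    omega
  obtain ⟨d, hd, hd1⟩ := (Subgroup.bot_or_exists_ne_one _).resolve_left (inf_center_ne_bot hS hN)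
  haveI : (zpowers d).Normal := normal_of_le_center (zpowers_le.2 hd.2)
  have hcard : Nat.card (zpowers d) = 2 := by
    rw [Nat.card_zpowers]; exact orderOf_eq_prime (F.sq d hd.1) hd1
  obtain ⟨P, hP, hdP, hPN, hPc⟩ := exists_normal_card_eq hS (zpowers_le.2 hd.1 : zpowers d ≤ F.N)
    (k := 2) (by rw [hcard]; norm_num) (by rw [F.card]; norm_num)
  exact ⟨d, P, hd.1, hd1, fun g => by rw [mem_center_iff.1 hd.2 g, mul_inv_cancel_right], hP,
    hdP (mem_zpowers d), hPN, hPc⟩

theorem exists_notMem {X : Subgroup S} (hX : Nat.card X < 8) : ∃ e ∈ F.N, e ∉ X := by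
  by_contra h
  simp only [not_exists, not_and, not_not] at h
  have := Subgroup.card_le_of_le (H := F.N) (K := X) h
  rw [F.card] at this
  omega

/-- `S / C(N)` has order at most eight, and is not abelian of order eight. -/
theorem index_stab (hS : IsPGroup 2 S) (Q : Subgroup (S ⧸ F.C)) : (frattini Q).index ≤ 4 := by
  classical
  haveI : Fact (Nat.Prime 2) := ⟨Nat.prime_two⟩
  obtain ⟨d, P, hdN, hd1, hdc, hPn, hdP, hPN, hPc⟩ := F.exists_flag hS
  obtain ⟨e2, he2P, he21, he2d⟩ : ∃ e ∈ P, e ≠ 1 ∧ e ≠ d := by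
    by_contra h
    simp only [not_exists, not_and, not_not] at h
    have := card_sub_le (X := P) (s := {1, d}) (k := 2) (fun x hx => by
      by_cases h1 : x = 1
      · exact Or.inl h1
      · exact Or.inr (h x hx h1)) ((Set.ncard_insert_le _ _).trans (by rw [Set.ncard_singleton]))
    omega
  obtain ⟨e3, he3N, he3P⟩ := F.exists_notMem (X := P) (by omega)
  have hP4 := four_mem hPc hdP he2P hd1 he21 (Ne.symm he2d) (F.sq d hdN) (F.sq e2 (hPN he2P))
  have hde2 : d * e2 = e2 * d := F.comm d hdN e2 (hPN he2P)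
  have hPi : (P.subgroupOf F.N).index = 2 := by
    have h1 := (P.subgroupOf F.N).card_mul_index
    rw [Nat.card_congr (Subgroup.subgroupOfEquivOfLe hPN).toEquiv, hPc, F.card] at h1
    omega
  -- the possible images of `e2` and `e3`
  have himg2 : ∀ g : S, g * e2 * g⁻¹ = e2 ∨ g * e2 * g⁻¹ = e2 * d := by
    intro g
    rcases hP4 _ (hPn.conj_mem e2 he2P g) with h | h | h | h
    · exact absurd (conj_eq_one_iff.1 h) he21
    · rw [← hdc g] at h
      exact absurd (mul_left_cancel (mul_right_cancel h)) he2d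
    · exact Or.inl h
    · exact Or.inr (h.trans hde2)
  have himg3 : ∀ g : S, g * e3 * g⁻¹ * e3 ∈ P := by
    intro g
    have h1 : (⟨g * e3 * g⁻¹, F.conj_mem g he3N⟩ * ⟨e3, he3N⟩ : F.N) ∈ P.subgroupOf F.N := by
      rw [Subgroup.mul_mem_iff_of_index_two hPi, Subgroup.mem_subgroupOf, Subgroup.mem_subgroupOf]
      refine iff_of_false (fun h => he3P ?_) he3P
      have h2 := hPn.conj_mem _ h g⁻¹
      rwa [show g⁻¹ * (g * e3 * g⁻¹) * g⁻¹⁻¹ = e3 by group] at h2
    exact h1
  have heqC : ∀ g : S, g * e2 * g⁻¹ = e2 → g * e3 * g⁻¹ = e3 → g ∈ F.C := by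
    intro g h2 h3
    refine F.mem_C_of_fixed ?_
    have hle : P ≤ F.N ⊓ centralizer ({g} : Set S) := by
      have hgd : g * d * g⁻¹ = d := hdc g
      intro x hx
      refine ⟨hPN hx, mem_centralizer_singleton_iff.2 ?_⟩
      have hx' : g * x * g⁻¹ = x := by
        rcases hP4 x hx with rfl | rfl | rfl | rfl
        · group
        · exact hgd
        · exact h2
        · rw [← conj_mul, hgd, h2]
      conv_lhs => rw [← hx']
      rw [inv_mul_cancel_right]
    have hlt : P < F.N ⊓ centralizer ({g} : Set S) := lt_of_le_of_ne hle fun he => he3P (he ▸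
      ⟨he3N, mem_centralizer_singleton_iff.2 (by conv_lhs => rw [← h3]; rw [inv_mul_cancel_right])⟩)
    have := Set.ncard_lt_ncard (SetLike.coe_ssubset_coe.2 hlt) (Set.toFinite _)
    change Nat.card P < Nat.card ↥(F.N ⊓ centralizer ({g} : Set S)) at this
    omega
  let val : S ⧸ F.C → S × S := Quotient.lift (fun g => (g * e2 * g⁻¹, g * e3 * g⁻¹)) (by
    intro g h hgh
    have hm : g⁻¹ * h ∈ F.C := QuotientGroup.leftRel_apply.1 hgh
    have e2' := F.conj_C hm (hPN he2P)
    have e3' := F.conj_C hm he3N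
    refine Prod.ext ?_ ?_
    · show g * e2 * g⁻¹ = h * e2 * h⁻¹
      conv_lhs => rw [← e2']
      group
    · show g * e3 * g⁻¹ = h * e3 * h⁻¹
      conv_lhs => rw [← e3']
      group)
  have hval : ∀ g : S, val (g : S ⧸ F.C) = (g * e2 * g⁻¹, g * e3 * g⁻¹) := fun g => rfl
  have hinj : Function.Injective val := by
    intro q r hqr
    obtain ⟨g, rfl⟩ := QuotientGroup.mk_surjective q
    obtain ⟨h, rfl⟩ := QuotientGroup.mk_surjective r
    rw [hval, hval] at hqr
    obtain ⟨a1, a2⟩ := Prod.ext_iff.1 hqr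
    simp only at a1 a2
    refine QuotientGroup.eq.2 (heqC _ ?_ ?_)
    · calc g⁻¹ * h * e2 * (g⁻¹ * h)⁻¹ = g⁻¹ * (h * e2 * h⁻¹) * g := by group
        _ = g⁻¹ * (g * e2 * g⁻¹) * g := by rw [← a1]
        _ = e2 := by group
    · calc g⁻¹ * h * e3 * (g⁻¹ * h)⁻¹ = g⁻¹ * (h * e3 * h⁻¹) * g := by group
        _ = g⁻¹ * (g * e3 * g⁻¹) * g := by rw [← a2]
        _ = e3 := by group
  set T : Set (S × S) := ({e2, e2 * d} : Set S) ×ˢ ((fun x => x * e3) '' (P : Set S))
  have hrange : Set.range val ⊆ T := by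
    rintro _ ⟨q, rfl⟩
    obtain ⟨g, rfl⟩ := QuotientGroup.mk_surjective q
    rw [hval]
    refine ⟨himg2 g, g * e3 * g⁻¹ * e3, himg3 g, ?_⟩
    show g * e3 * g⁻¹ * e3 * e3 = _
    rw [mul_assoc _ e3, ← pow_two, F.sq e3 he3N, mul_one]
  have hT : T.ncard ≤ 8 := by
    rw [Set.ncard_prod]
    refine (Nat.mul_le_mul ((Set.ncard_insert_le _ _).trans (by rw [Set.ncard_singleton]))
      ((Set.ncard_image_le (Set.toFinite _)).trans (le_of_eq hPc))).trans (by norm_num)
  have hcard : Nat.card (S ⧸ F.C) ≤ 8 := by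
    refine le_trans (le_of_eq ?_) ((Set.ncard_le_ncard hrange (Set.toFinite _)).trans hT)
    rw [← Nat.card_range_of_injective hinj]; rfl
  -- a group of order eight is not abelian
  by_contra hbig
  rw [not_le] at hbig
  have hQ := index_frattini_le_card (H := ↥Q)
  obtain ⟨j, hj⟩ := card_subgroup_eq_pow (hS.to_quotient F.C) Q
  have hj3 : 3 ≤ j := by
    by_contra h
    have h' : 2 ^ j ≤ 2 ^ 2 := Nat.pow_le_pow_right two_pos (by omega)
    omega
  have h8 : 8 ≤ Nat.card Q := hj ▸ (Nat.pow_le_pow_right two_pos hj3 : 2 ^ 3 ≤ 2 ^ j)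
  have hQtop : Q = ⊤ := Subgroup.eq_top_of_le_card Q (hcard.trans h8)
  have hFbot : frattini Q = ⊥ := by
    have h1 := (frattini Q).card_mul_index
    have h2 := Subgroup.card_le_card_group Q
    obtain ⟨i, hi⟩ := index_eq_pow ((hS.to_quotient F.C).to_subgroup Q) (frattini Q)
    have hi3 : 3 ≤ i := by
      by_contra h
      have h' : 2 ^ i ≤ 2 ^ 2 := Nat.pow_le_pow_right two_pos (by omega)
      omega
    have h5 : 8 ≤ (frattini Q).index := hi ▸ (Nat.pow_le_pow_right two_pos hi3 : 2 ^ 3 ≤ 2 ^ i)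
    refine Subgroup.card_eq_one.1 (le_antisymm ?_ Nat.card_pos)
    by_contra hc
    rw [not_le] at hc
    have := Nat.mul_le_mul (Nat.succ_le_of_lt hc) h5
    omega
  have hsurj : ∀ u ∈ T, ∃ g : S, val (g : S ⧸ F.C) = u := by
    intro u hu
    have heq : Set.range val = T := Set.eq_of_subset_of_ncard_le hrange (by
      refine hT.trans (le_trans h8 ((Subgroup.card_le_card_group Q).trans (le_of_eq ?_)))
      rw [← Nat.card_range_of_injective hinj]; rfl) (Set.toFinite _)
    obtain ⟨q, hq⟩ := heq.symm ▸ hu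
    obtain ⟨g, rfl⟩ := QuotientGroup.mk_surjective q
    exact ⟨g, hq⟩
  obtain ⟨g, hg⟩ := hsurj (e2 * d, e3) ⟨Or.inr rfl, 1, one_mem _, one_mul e3⟩
  obtain ⟨h, hh⟩ := hsurj (e2, e2 * e3) ⟨Or.inl rfl, e2, he2P, rfl⟩
  rw [hval] at hg hh
  obtain ⟨hg2, hg3⟩ := Prod.ext_iff.1 hg
  obtain ⟨-, hh3⟩ := Prod.ext_iff.1 hh
  simp only at hg2 hg3 hh3
  have hc : ((g * h : S) : S ⧸ F.C) = ((h * g : S) : S ⧸ F.C) := by
    have hc1 : ⁅(⟨(g : S ⧸ F.C), hQtop ▸ mem_top _⟩ : Q),
        (⟨(h : S ⧸ F.C), hQtop ▸ mem_top _⟩ : Q)⁆ = 1 :=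
      Subgroup.mem_bot.1 (hFbot ▸ commutator_le_frattini ((hS.to_quotient F.C).to_subgroup Q)
        (commutator_mem_commutator (mem_top _) (mem_top _)))
    exact congrArg Subtype.val (commutatorElement_eq_one_iff_mul_comm.1 hc1)
  have h3 := (Prod.ext_iff.1 (congrArg val hc)).2
  rw [hval, hval] at h3
  simp only at h3
  rw [show g * h * e3 * (g * h)⁻¹ = g * (h * e3 * h⁻¹) * g⁻¹ by group, hh3,
    show h * g * e3 * (h * g)⁻¹ = h * (g * e3 * g⁻¹) * h⁻¹ by group, hg3, hh3, ← conj_mul, hg2,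
    hg3] at h3
  exact hd1 (mul_eq_left.1 (mul_right_cancel h3))

end Eight

end CfsgLib.PGroups.Harada
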