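import Cfsg.Agent.Lib.PGroups.Harada.Reduce

/-!
# A self-centralizing subgroup meeting `N` in a plane, with `C(N) ≠ N`
-/

set_option autoImplicit false
set_option linter.unusedSectionVars false
set_option linter.style.haveILetI false

namespace CfsgLib.PGroups.Harada

open Subgroup
open scoped commutatorElement

variable {S : Type*} [Group S] [Finite S] {H : Type*} [Group H] [Finite H]

theorem index_le_of_range_eq {X : Subgroup S} (ι : H →* S) (hι : Function.Injective ι)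
    (h : ι.range = X) : (frattini H).index = (frattini ↥X).index := by
  subst h
  rw [← Base.map_frattini_mulEquiv (MonoidHom.ofInjective hι)]
  exact (Subgroup.index_map_equiv _ (MonoidHom.ofInjective hι)).symm

theorem eq_of_dvd_and_le {X : Subgroup S} {k : ℕ} (hS : IsPGroup 2 S) (h : 2 ^ k < Nat.card X) :
    2 ^ (k + 1) ≤ Nat.card X := by
  haveI : Fact (Nat.Prime 2) := ⟨Nat.prime_two⟩
  obtain ⟨j, hj⟩ := card_subgroup_eq_pow hS X
  rw [hj] at h ⊢
  exact Nat.pow_le_pow_right two_pos ((Nat.pow_lt_pow_iff_right one_lt_two).1 h)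

/-- The configuration: `A ∩ N` is a plane and `a` is in `A` outside. -/
structure Meet (S : Type*) [Group S] where
  F : Eight S
  T : SelfCent S
  a : S
  haA : a ∈ T.A
  haN : a ∉ F.N
  card : Nat.card ↥(T.A ⊓ F.N) = 4
  x : S
  hxC : x ∈ F.C
  hxN : x ∉ F.N
  hx : ⁅a, x⁆ ∈ F.N

namespace Meet

variable (M : Meet S)

/-- The plane `A ∩ N`. -/
def D : Subgroup S := M.T.A ⊓ M.F.N

theorem mem_A {e : S} (hD : ∀ u ∈ M.D, u * e = e * u) (ha : M.a * e = e * M.a) : e ∈ M.T.A := by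
  refine M.T.self e fun y hy => ?_
  have hlt : M.D < M.T.A ⊓ centralizer ({e} : Set S) :=
    lt_of_le_of_ne (fun u hu => ⟨hu.1, mem_centralizer_singleton_iff.2 (hD u hu)⟩)
      fun he => M.haN (he ▸ ⟨M.haA, mem_centralizer_singleton_iff.2 ha⟩ : M.a ∈ M.D).2
  have h1 := Set.ncard_lt_ncard (SetLike.coe_ssubset_coe.2 hlt) (Set.toFinite _)
  change Nat.card M.D < Nat.card ↥(M.T.A ⊓ centralizer ({e} : Set S)) at h1
  have hD4 : Nat.card M.D = 4 := M.card
  have heq := eq_of_lt_two_mul (inf_le_left : M.T.A ⊓ centralizer ({e} : Set S) ≤ M.T.A) (k := 2)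
    (by rw [M.T.card]; rfl) (by omega)
  have hy' : y ∈ M.T.A ⊓ centralizer ({e} : Set S) := heq.symm ▸ hy
  exact mem_centralizer_singleton_iff.1 hy'.2

theorem asq : M.a ^ 2 = 1 := M.T.sq _ M.haA

theorem a_notMem_C : M.a ∉ M.F.C := by
  intro ha
  have hle : M.F.N ≤ M.D := fun e he => ⟨M.mem_A (fun u hu => M.F.comm u hu.2 e he)
    (M.F.mem_C.1 ha e he).symm, he⟩
  have := Subgroup.card_le_of_le hle
  rw [M.F.card] at this
  change 8 ≤ Nat.card ↥(M.T.A ⊓ M.F.N) at this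
  rw [M.card] at this
  omega

theorem mem_D_of_mem_C {e : S} (he : e ∈ M.F.C) (ha : Commute M.a e) : e ∈ M.D := by
  have heA : e ∈ M.T.A := M.mem_A (fun u hu => M.F.mem_C.1 he u hu.2) ha
  refine ⟨heA, by_contra fun hN => ?_⟩
  -- otherwise `A = D⟨e⟩` centralizes `N`
  refine M.a_notMem_C (M.F.mem_C.2 fun v hv => ?_)
  have hvA : ∀ y ∈ M.T.A, y * v = v * y := by
    intro y hy
    have hlt : M.D < M.T.A ⊓ centralizer ({v} : Set S) :=
      lt_of_le_of_ne (fun u hu => ⟨hu.1, mem_centralizer_singleton_iff.2 (M.F.comm u hu.2 v hv)⟩)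
        fun h => hN ((h ▸ ⟨heA, mem_centralizer_singleton_iff.2
          (M.F.mem_C.1 he v hv).symm⟩ : e ∈ M.D)).2
    have h1 := Set.ncard_lt_ncard (SetLike.coe_ssubset_coe.2 hlt) (Set.toFinite _)
    change Nat.card M.D < Nat.card ↥(M.T.A ⊓ centralizer ({v} : Set S)) at h1
    have hD4 : Nat.card M.D = 4 := M.card
    have heq := eq_of_lt_two_mul (inf_le_left : M.T.A ⊓ centralizer ({v} : Set S) ≤ M.T.A) (k := 2)
      (by rw [M.T.card]; rfl) (by omega)
    exact mem_centralizer_singleton_iff.1 (heq.symm ▸ hy : y ∈ M.T.A ⊓ centralizer ({v} : Set S)).2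
  exact (hvA M.a M.haA).symm

theorem D_fixed {e : S} (he : e ∈ M.D) : Commute M.a e := M.T.comm _ M.haA e he.1

/-- Commutators with `a` inside `N` lie in `D`. -/
theorem value_mem {g : S} (hg : ⁅M.a, g⁆ ∈ M.F.N) : ⁅M.a, g⁆ ∈ M.D := by
  refine M.mem_D_of_mem_C (M.F.N_le_C hg) ?_
  have h1 : M.a * ⁅M.a, g⁆ * M.a⁻¹ = (⁅M.a, g⁆)⁻¹ := by
    rw [commutatorElement_def]
    calc M.a * (M.a * g * M.a⁻¹ * g⁻¹) * M.a⁻¹
        = M.a ^ 2 * g * (M.a ^ 2)⁻¹ * (M.a * g⁻¹ * M.a⁻¹) := by rw [pow_two]; group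
      _ = (M.a * g * M.a⁻¹ * g⁻¹)⁻¹ := by rw [M.asq]; group
  rw [M.F.inv_eq hg] at h1
  exact mul_inv_eq_iff_eq_mul.1 h1

theorem value_mul {u v : S} (hu : u ∈ M.F.C) (hv : ⁅M.a, v⁆ ∈ M.F.N) :
    ⁅M.a, u * v⁆ = ⁅M.a, u⁆ * ⁅M.a, v⁆ := by
  rw [show ⁅M.a, u * v⁆ = ⁅M.a, u⁆ * (u * ⁅M.a, v⁆ * u⁻¹) by
    simp only [commutatorElement_def]; group, M.F.conj_C hu hv]

theorem eq_one_or_of_mem {e : S} (he : e ∈ M.F.N) : ⁅M.a, e⁆ ∈ M.F.N :=
  mul_mem (M.F.conj_mem _ he) (inv_mem he)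

/-- The nontrivial commutator of `a` with `N`. -/
theorem exists_t : ∃ t ∈ M.D, t ≠ 1 ∧ ∀ e ∈ M.F.N, (e ∈ M.D ∧ ⁅M.a, e⁆ = 1) ∨ (e ∉ M.D ∧ ⁅M.a, e⁆ = t) := by
  have hD4 : Nat.card M.D = 4 := M.card
  obtain ⟨e, he, heD⟩ := M.F.exists_notMem (X := M.D) (by omega)
  have hne : ∀ u ∈ M.F.N, u ∉ M.D → ⁅M.a, u⁆ ≠ 1 := fun u hu huD h =>
    huD (M.mem_D_of_mem_C (M.F.N_le_C hu) (commutatorElement_eq_one_iff_mul_comm.1 h))
  refine ⟨⁅M.a, e⁆, M.value_mem (M.eq_one_or_of_mem he), hne e he heD, fun u hu => ?_⟩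
  by_cases huD : u ∈ M.D
  · exact Or.inl ⟨huD, commutatorElement_eq_one_iff_mul_comm.2 (M.D_fixed huD)⟩
  refine Or.inr ⟨huD, ?_⟩
  have hidx : (M.D.subgroupOf M.F.N).index = 2 := by
    have h1 := (M.D.subgroupOf M.F.N).card_mul_index
    rw [Nat.card_congr (Subgroup.subgroupOfEquivOfLe (show M.D ≤ M.F.N from inf_le_right)).toEquiv, hD4,
      M.F.card] at h1
    omega
  have hue : u * e ∈ M.D := by
    have h1 : (⟨u, hu⟩ * ⟨e, he⟩ : M.F.N) ∈ M.D.subgroupOf M.F.N := by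
      rw [Subgroup.mul_mem_iff_of_index_two hidx, Subgroup.mem_subgroupOf, Subgroup.mem_subgroupOf]
      exact iff_of_false huD heD
    exact h1
  have h1 : ⁅M.a, u⁆ * ⁅M.a, e⁆ = 1 := by
    rw [← M.value_mul (M.F.N_le_C hu) (M.eq_one_or_of_mem he)]
    exact commutatorElement_eq_one_iff_mul_comm.2 (M.D_fixed hue)
  rw [eq_inv_of_mul_eq_one_left h1, M.F.inv_eq (M.eq_one_or_of_mem he)]

theorem value_x_ne {t : S} (ht : ∀ e ∈ M.F.N, (e ∈ M.D ∧ ⁅M.a, e⁆ = 1) ∨ (e ∉ M.D ∧ ⁅M.a, e⁆ = t)) :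
    ∀ u ∈ M.F.C, ⁅M.a, u⁆ = 1 ∨ ⁅M.a, u⁆ = t → u ∈ M.F.N := by
  intro u hu hv
  rcases hv with h | h
  · exact (M.mem_D_of_mem_C hu (commutatorElement_eq_one_iff_mul_comm.1 h)).2
  · have hD4 : Nat.card M.D = 4 := M.card
    obtain ⟨e, he, heD⟩ := M.F.exists_notMem (X := M.D) (by omega)
    have hte : ⁅M.a, e⁆ = t := ((ht e he).resolve_left fun h' => heD h'.1).2
    have h1 : ⁅M.a, u * e⁆ = 1 := by
      rw [M.value_mul hu (M.eq_one_or_of_mem he), h, hte, ← hte, ← pow_two,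
        M.F.sq _ (M.eq_one_or_of_mem he)]
    have h2 : u * e ∈ M.F.N := (M.mem_D_of_mem_C (mul_mem hu (M.F.N_le_C he))
      (commutatorElement_eq_one_iff_mul_comm.1 h1)).2
    have := mul_mem h2 (inv_mem he)
    rwa [mul_inv_cancel_right] at this

/-- An element of `C` with commutator in `N` lies in `N ∪ Nx`. -/
theorem fixed_cases {u : S} (hu : u ∈ M.F.C) (hv : ⁅M.a, u⁆ ∈ M.F.N) :
    u ∈ M.F.N ∨ u * M.x ∈ M.F.N := by
  obtain ⟨t, htD, ht1, ht⟩ := M.exists_t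
  have hn := M.value_mem M.hx
  have hn1 : ⁅M.a, M.x⁆ ≠ 1 := fun h => M.hxN (M.value_x_ne ht _ M.hxC (Or.inl h))
  have hnt : t ≠ ⁅M.a, M.x⁆ := fun h => M.hxN (M.value_x_ne ht _ M.hxC (Or.inr h.symm))
  rcases four_mem (X := M.D) M.card htD hn ht1 hn1 hnt (M.F.sq _ htD.2) (M.F.sq _ hn.2) _
    (M.value_mem hv) with h | h | h | h
  · exact Or.inl (M.value_x_ne ht u hu (Or.inl h))
  · exact Or.inl (M.value_x_ne ht u hu (Or.inr h))
  · refine Or.inr (M.value_x_ne ht _ (mul_mem hu M.hxC) (Or.inl ?_))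
    rw [M.value_mul hu M.hx, h, ← pow_two, M.F.sq _ M.hx]
  · refine Or.inr (M.value_x_ne ht _ (mul_mem hu M.hxC) (Or.inr ?_))
    rw [M.value_mul hu M.hx, h, mul_assoc, ← pow_two, M.F.sq _ M.hx, mul_one]

/-- A subgroup equal to `C` has Frattini quotient of order at most sixteen. -/
theorem index_frattini_C (hS : IsPGroup 2 S) : (frattini ↥M.F.C).index ≤ 16 := by
  haveI : Fact (Nat.Prime 2) := ⟨Nat.prime_two⟩
  set α : MulAut ↥M.F.C := MulAut.conjNormal M.a
  have hα : α ^ 2 = 1 := by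
    show MulAut.conjNormal M.a ^ 2 = 1
    rw [← map_pow, M.asq, map_one]
  have h4 : Nat.card {g : ↥M.F.C // α g = g} ≤ 4 := by
    rw [← M.card]
    refine Nat.card_le_card_of_injective
      (fun g => (⟨((g.1 : ↥M.F.C) : S), M.mem_D_of_mem_C g.1.2 ?_⟩ : ↥M.D)) fun u v huv =>
      Subtype.ext (Subtype.ext (congrArg (fun w : ↥M.D => (w : S)) huv))
    have h := congrArg Subtype.val g.2
    rw [MulAut.conjNormal_apply, mul_inv_eq_iff_eq_mul] at h
    exact h
  have h := Higman.card_quotient_frattini_le (p := 2) (hS.to_subgroup _) α hα 4 h4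
  exact h.trans (by norm_num)

theorem card_centralizer_quotient_le (hca : ∀ g : S, Commute g M.a → g ∈ M.T.A) :
    Nat.card (centralizer ({(M.a : S ⧸ M.F.N)} : Set (S ⧸ M.F.N))) ≤ 4 := by
  set L := (centralizer ({(M.a : S ⧸ M.F.N)} : Set (S ⧸ M.F.N))).comap (QuotientGroup.mk' M.F.N)
  have hmem : ∀ g ∈ L, ⁅M.a, g⁆ ∈ M.F.N := by
    intro g hg
    rw [← QuotientGroup.eq_one_iff]
    show QuotientGroup.mk' M.F.N ⁅M.a, g⁆ = 1
    rw [map_commutatorElement, commutatorElement_eq_one_iff_mul_comm]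
    exact (mem_centralizer_singleton_iff.1 hg).symm
  have hL : Nat.card L ≤ 4 * 8 := by
    rw [← M.card, ← M.T.card, ← Nat.card_prod]
    classical
    let val : L → ↥M.D := fun g => ⟨⁅M.a, (g : S)⁆, M.value_mem (hmem g g.2)⟩
    let sec : ↥M.D → S := fun v => if h : ∃ g : L, val g = v then (h.choose : S) else 1
    refine Nat.card_le_card_of_injective
      (fun g : L => (val g, (⟨(g : S)⁻¹ * sec (val g), ?_⟩ : ↥M.T.A))) fun g h hgh => ?_
    · refine hca _ ?_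
      have hex : ∃ g' : L, val g' = val g := ⟨g, rfl⟩
      simp only [sec, dif_pos hex]
      have h0 : ⁅M.a, (hex.choose : S)⁆ = ⁅M.a, (g : S)⁆ := congrArg Subtype.val hex.choose_spec
      set g' := (hex.choose : S)
      have h1 : ∀ u : S, u * M.a * u⁻¹ = (⁅M.a, u⁆)⁻¹ * M.a := fun u => by
        rw [commutatorElement_def]; group
      have h2 : g' * M.a * g'⁻¹ = (g : S) * M.a * (g : S)⁻¹ := by rw [h1, h1, h0]
      show (g : S)⁻¹ * g' * M.a = M.a * ((g : S)⁻¹ * g')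
      calc (g : S)⁻¹ * g' * M.a = (g : S)⁻¹ * (g' * M.a * g'⁻¹) * g' := by group
        _ = M.a * ((g : S)⁻¹ * g') := by rw [h2]; group
    · obtain ⟨e1, e2⟩ := Prod.ext_iff.1 hgh
      have e2' := congrArg Subtype.val e2
      dsimp only at e1 e2'
      rw [e1] at e2'
      exact Subtype.ext (inv_injective (mul_right_cancel e2'))
  have hidx : L.index = (centralizer ({(M.a : S ⧸ M.F.N)} : Set (S ⧸ M.F.N))).index :=
    Subgroup.index_comap_of_surjective _ (QuotientGroup.mk'_surjective _)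
  have h1 := L.card_mul_index
  have h2 := (centralizer ({(M.a : S ⧸ M.F.N)} : Set (S ⧸ M.F.N))).card_mul_index
  have h3 := Subgroup.card_eq_card_quotient_mul_card_subgroup M.F.N
  rw [M.F.card, ← h2, ← h1, hidx] at h3
  have h4 : 0 < (centralizer ({(M.a : S ⧸ M.F.N)} : Set (S ⧸ M.F.N))).index :=
    Nat.pos_of_ne_zero Subgroup.index_ne_zero_of_finite
  have h5 : Nat.card L = Nat.card (centralizer ({(M.a : S ⧸ M.F.N)} : Set (S ⧸ M.F.N))) * 8 :=
    Nat.eq_of_mul_eq_mul_right h4 (by rw [h3]; ring)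
  omega

/-- The case where `A` is the centralizer of `a`. -/
theorem index_le_of_centralizer (hS : IsPGroup 2 S) (hca : ∀ g : S, Commute g M.a → g ∈ M.T.A)
    (ι : H →* S) (hι : Function.Injective ι) : (frattini H).index ≤ 16 := by
  haveI : Fact (Nat.Prime 2) := ⟨Nat.prime_two⟩
  have hH : IsPGroup 2 H := hS.of_injective ι hι
  have haq : (M.a : S ⧸ M.F.N) ≠ 1 := fun h => M.haN ((QuotientGroup.eq_one_iff _).1 h)
  have hgood := exists_cyclic_index_two (hS.to_quotient M.F.N) haq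
    (M.card_centralizer_quotient_le hca)
  set K := M.F.N.comap ι
  haveI : K.Normal := inferInstance
  set f := (QuotientGroup.mk' M.F.N).comp ι with hf
  have hfker : f.ker = K := by
    ext h; simp [hf, K, MonoidHom.mem_ker, QuotientGroup.eq_one_iff]
  have hsup := (sup_index_le hH f K hfker).trans (index_frattini_subgroup_le (hS.to_quotient _) hgood _)
  rw [index_frattini_eq K]
  have hKc : Nat.card K ≤ 8 := by
    rw [← M.F.card]
    exact Nat.card_le_card_of_injective (fun k => (⟨ι k, k.2⟩ : M.F.N))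
      fun u v huv => Subtype.ext (hι (congrArg Subtype.val huv))
  have hrel := relIndex_le_card (H := H) K
  by_cases hK4 : Nat.card K ≤ 4
  · exact (Nat.mul_le_mul (hrel.trans hK4) hsup).trans (by norm_num)
  by_cases hF : ∃ m ∈ K, m ≠ 1 ∧ m ∈ frattini H
  · obtain ⟨m, hm, hm1, hmF⟩ := hF
    have := two_mul_relIndex_le K hm hm1 hmF
    exact (Nat.mul_le_mul (by omega : (frattini H).relIndex K ≤ 4) hsup).trans (by norm_num)
  simp only [not_exists, not_and] at hF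
  by_cases hs2 : (K ⊔ frattini H).index ≤ 2
  · exact (Nat.mul_le_mul (hrel.trans hKc) hs2).trans (by norm_num)
  -- `N ≤ H ≤ C`, with noncyclic image
  have hNrange : ∀ e ∈ M.F.N, ∃ k ∈ K, ι k = e := by
    intro e he
    have hle : K.map ι ≤ M.F.N := Subgroup.map_comap_le _ _
    have heq := eq_of_lt_two_mul hle (k := 2) (by rw [M.F.card]; rfl) (by
      rw [Nat.card_congr (Subgroup.equivMapOfInjective K ι hι).symm.toEquiv]
      exact not_le.1 hK4)
    obtain ⟨k, hk, hke⟩ := heq.symm ▸ he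
    exact ⟨k, hk, hke⟩
  have hHC : ∀ h : H, ι h ∈ M.F.C := by
    intro h
    refine M.F.mem_C.2 fun e he => ?_
    obtain ⟨k, hk, rfl⟩ := hNrange e he
    have h1 : ⁅h, k⁆ = 1 := by_contra fun h1 => hF _ (mul_mem ((inferInstance : K.Normal).conj_mem k hk h) (inv_mem hk)) h1
      (commutator_le_frattini hH (commutator_mem_commutator (mem_top _) (mem_top _)))
    rw [← map_mul, ← map_mul, commutatorElement_eq_one_iff_mul_comm.1 h1]
  set Q := f.range
  have hQc : ¬ IsCyclic ↥Q := fun hc => hs2 ((sup_index_le hH f K hfker).trans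
    (index_frattini_le_two_of_cyclic ((hS.to_quotient M.F.N).to_subgroup _)))
  set W := M.F.C.map (QuotientGroup.mk' M.F.N)
  haveI hWn : W.Normal := (inferInstance : M.F.C.Normal).map _ (QuotientGroup.mk'_surjective _)
  have hQW : Q ≤ W := by
    rintro _ ⟨h, rfl⟩
    exact ⟨ι h, hHC h, rfl⟩
  -- an element of `W` fixed by the image of `a` is trivial or the image of `x`
  have hfixW : ∀ w ∈ W, (M.a : S ⧸ M.F.N) * w = w * (M.a : S ⧸ M.F.N) →
      w = 1 ∨ w = (M.x : S ⧸ M.F.N) := by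
    rintro _ ⟨u, hu, rfl⟩ hw
    have h1 : ⁅M.a, u⁆ ∈ M.F.N := by
      rw [← QuotientGroup.eq_one_iff]
      show QuotientGroup.mk' M.F.N ⁅M.a, u⁆ = 1
      rw [map_commutatorElement, commutatorElement_eq_one_iff_mul_comm]
      exact hw
    rcases M.fixed_cases hu h1 with h | h
    · exact Or.inl ((QuotientGroup.eq_one_iff u).2 h)
    · have h2 : (M.x : S ⧸ M.F.N) * M.x = 1 := by
        rw [← QuotientGroup.mk_mul, QuotientGroup.eq_one_iff]
        rcases M.fixed_cases M.hxC M.hx with h' | h'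
        · exact absurd h' M.hxN
        · exact h'
      refine Or.inr ?_
      show (u : S ⧸ M.F.N) = M.x
      have h3 : (u : S ⧸ M.F.N) * M.x = 1 := by
        rw [← QuotientGroup.mk_mul, QuotientGroup.eq_one_iff]; exact h
      rw [eq_inv_of_mul_eq_one_left h3, ← eq_inv_of_mul_eq_one_left h2]
  have hwhole : Nat.card W ≤ 4 → (frattini H).index ≤ 16 := by
    intro hW
    have hQ4 : 3 ≤ Nat.card Q := by
      by_contra h
      refine hQc ?_
      obtain ⟨j, hj⟩ := card_subgroup_eq_pow (hS.to_quotient M.F.N) Q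
      rcases Nat.lt_or_ge j 2 with hj2 | hj2
      · interval_cases j
        · have : Subsingleton ↥Q := (Nat.card_eq_one_iff_unique.1 hj).1
          infer_instance
        · exact isCyclic_of_prime_card (p := 2) hj
      · have : 2 ^ 2 ≤ 2 ^ j := Nat.pow_le_pow_right two_pos hj2
        omega
    have hQeq : Q = W := Subgroup.eq_of_le_of_card_ge hQW (by
      have h2 := eq_of_dvd_and_le (X := Q) (k := 1) (hS.to_quotient _) (by omega)
      omega)
    rw [index_le_of_range_eq ι hι (X := M.F.C) ?_]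
    · exact M.index_frattini_C hS
    ext c
    refine ⟨fun ⟨h, hh⟩ => hh ▸ hHC h, fun hc => ?_⟩
    obtain ⟨h, hh⟩ : (c : S ⧸ M.F.N) ∈ Q := hQeq.symm ▸ ⟨c, hc, rfl⟩
    have hm : (ι h)⁻¹ * c ∈ M.F.N := QuotientGroup.eq.1 (show ((ι h : S) : S ⧸ M.F.N) = c from hh)
    obtain ⟨k, -, hk⟩ := hNrange _ hm
    exact ⟨h * k, by rw [map_mul, hk, mul_inv_cancel_left]⟩
  rw [← index_frattini_eq K]
  by_cases hW4 : Nat.card W ≤ 4
  · exact hwhole hW4
  exfalso
  have hW8 : 8 ≤ Nat.card W := eq_of_dvd_and_le (X := W) (k := 2) (hS.to_quotient _) (not_le.1 hW4)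
  obtain ⟨Z, hZc, hZi⟩ := hgood.resolve_left fun h => hW4 ((Subgroup.card_le_card_group W).trans h)
  haveI := Subgroup.normal_of_index_eq_two hZi
  have hWZ : 4 ≤ Nat.card ↥(W ⊓ Z) := by
    have h1 := Subgroup.relIndex_dvd_index_of_normal Z W
    rw [hZi] at h1
    have h2 := Nat.le_of_dvd two_pos h1
    have h3 := (Z.subgroupOf W).card_mul_index
    rw [← Nat.card_congr (Subgroup.subgroupOfEquivOfLe (inf_le_left : W ⊓ Z ≤ W)).toEquiv,
      Subgroup.inf_subgroupOf_left]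
    change Nat.card ↥(Z.subgroupOf W) * Z.relIndex W = Nat.card W at h3
    by_contra h
    rw [not_le] at h
    have := Nat.mul_le_mul (Nat.le_of_lt_succ h) h2
    omega
  haveI : IsCyclic ↥(W ⊓ Z) := isCyclic_of_injective (Subgroup.inclusion (inf_le_right : W ⊓ Z ≤ Z))
    (Subgroup.inclusion_injective _)
  obtain ⟨q₀, hq₀⟩ := IsCyclic.exists_generator (α := ↥(W ⊓ Z))
  obtain ⟨j, hj⟩ := card_subgroup_eq_pow (hS.to_quotient M.F.N) (W ⊓ Z)
  have hj2 : 2 ≤ j := (Nat.pow_le_pow_iff_right one_lt_two).1 (by rw [← hj]; exact hWZ)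
  have hord : orderOf (q₀ : S ⧸ M.F.N) = 2 ^ j := by
    rw [Subgroup.orderOf_coe, orderOf_eq_card_of_forall_mem_zpowers hq₀, hj]
  set q := (q₀ : S ⧸ M.F.N) ^ 2 ^ (j - 2) with hq
  have hq4 : orderOf q = 4 := by
    rw [hq, orderOf_pow_of_dvd (by positivity)
      (by rw [hord]; exact pow_dvd_pow 2 (Nat.sub_le _ _)), hord,
      Nat.pow_div (Nat.sub_le _ _) two_pos, show j - (j - 2) = 2 by omega]; rfl
  have hq44 : q ^ 4 = 1 := by rw [← hq4]; exact pow_orderOf_eq_one q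
  have hqW : q ∈ W := pow_mem q₀.2.1 _
  have hqZ : q ∈ Z := pow_mem q₀.2.2 _
  have hasq : (M.a : S ⧸ M.F.N) * M.a = 1 := by
    rw [← QuotientGroup.mk_mul, ← pow_two, M.asq]; rfl
  -- `a` inverts `q`
  have hinv : (M.a : S ⧸ M.F.N) * q * (M.a : S ⧸ M.F.N)⁻¹ = q⁻¹ := by
    have h1 : (M.a : S ⧸ M.F.N) * (q₀ : S ⧸ M.F.N) * (M.a : S ⧸ M.F.N)⁻¹ ∈ W ⊓ Z :=
      ⟨hWn.conj_mem _ q₀.2.1 _, Subgroup.Normal.conj_mem inferInstance _ q₀.2.2 _⟩
    obtain ⟨k, hk⟩ := mem_zpowers_iff.1 (hq₀ ⟨_, h1⟩)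
    have hk' : (q₀ : S ⧸ M.F.N) ^ k =
        (M.a : S ⧸ M.F.N) * (q₀ : S ⧸ M.F.N) * (M.a : S ⧸ M.F.N)⁻¹ := by
      simpa using congrArg Subtype.val hk
    have hqk : (M.a : S ⧸ M.F.N) * q * (M.a : S ⧸ M.F.N)⁻¹ = q ^ k := by
      rw [hq, ← conj_pow, ← hk', ← zpow_natCast, ← zpow_natCast, ← zpow_mul, ← zpow_mul, mul_comm]
    have hmod : q ^ k = q ^ (k % 4) := by
      conv_lhs => rw [← zpow_mod_orderOf, hq4]
      rfl
    rw [hqk, hmod]
    have h4 : k % 4 = 0 ∨ k % 4 = 1 ∨ k % 4 = 2 ∨ k % 4 = 3 := by omega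
    have hqne : q ≠ 1 := fun h => by rw [h, orderOf_one] at hq4; omega
    have hq2 : q ^ 2 ≠ 1 := fun h => by
      have := orderOf_dvd_of_pow_eq_one h
      rw [hq4] at this
      exact absurd (Nat.le_of_dvd two_pos this) (by omega)
    rw [hmod] at hqk
    rcases h4 with h | h | h | h <;> rw [h] at hqk ⊢
    · rw [zpow_zero, conj_eq_one_iff] at hqk
      exact absurd hqk hqne
    · rw [zpow_one] at hqk
      rcases hfixW q hqW (mul_inv_eq_iff_eq_mul.1 hqk) with h' | h'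
      · exact absurd h' hqne
      · refine absurd ?_ hq2
        rw [h', pow_two, ← QuotientGroup.mk_mul, QuotientGroup.eq_one_iff]
        rcases M.fixed_cases M.hxC M.hx with h'' | h''
        · exact absurd h'' M.hxN
        · exact h''
    · exfalso
      have h6 := congrArg (fun y => y ^ 2) hqk
      simp only [conj_pow] at h6
      rw [← zpow_natCast (q ^ (2 : ℤ)), ← zpow_mul,
        show (2 : ℤ) * ((2 : ℕ) : ℤ) = ((4 : ℕ) : ℤ) from rfl, zpow_natCast, hq44, conj_eq_one_iff]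
        at h6
      exact hq2 h6
    · rw [eq_inv_iff_mul_eq_one, ← zpow_add_one, show (3 : ℤ) + 1 = ((4 : ℕ) : ℤ) from rfl,
        zpow_natCast, hq44]
  have hzx : q ^ 2 = (M.x : S ⧸ M.F.N) := by
    refine (hfixW (q ^ 2) (pow_mem hqW 2) ?_).resolve_left fun h => ?_
    · have h1 : (M.a : S ⧸ M.F.N) * q ^ 2 * (M.a : S ⧸ M.F.N)⁻¹ = q ^ 2 := by
        rw [← conj_pow, hinv, inv_pow, inv_eq_iff_mul_eq_one, ← pow_add]
        exact hq44
      exact mul_inv_eq_iff_eq_mul.1 h1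
    · have := orderOf_dvd_of_pow_eq_one h
      rw [hq4] at this
      exact absurd (Nat.le_of_dvd two_pos this) (by omega)
  -- `Q` contains the image of `x`
  haveI := hZc
  haveI : IsCyclic ↥(Q ⊓ Z) := isCyclic_of_injective (Subgroup.inclusion (inf_le_right : Q ⊓ Z ≤ Z))
    (Subgroup.inclusion_injective _)
  have hQZ : Q ⊓ Z ≠ ⊥ := by
    intro h
    refine hQc ?_
    have h1 := Subgroup.relIndex_dvd_index_of_normal Z Q
    rw [hZi] at h1
    have h3 : Z.relIndex Q = Nat.card Q := by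
      rw [← Subgroup.inf_relIndex_left, h, Subgroup.relIndex_bot_left]
    rcases (Nat.dvd_prime Nat.prime_two).1 (h3 ▸ h1) with h4 | h4
    · haveI : Subsingleton ↥Q := (Nat.card_eq_one_iff_unique.1 h4).1
      infer_instance
    · exact isCyclic_of_prime_card (p := 2) h4
  obtain ⟨u, ⟨huQ, huZ⟩, hu1⟩ := (Subgroup.bot_or_exists_ne_one _).resolve_left hQZ
  -- the unique involution of `Z`
  obtain ⟨i, hi⟩ := (hS.to_quotient M.F.N).to_subgroup Z (⟨u, huZ⟩ : Z)
  obtain ⟨v, hv2, hv1, hvQ⟩ : ∃ v : S ⧸ M.F.N, v ^ 2 = 1 ∧ v ≠ 1 ∧ v ∈ Q ⊓ Z := by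
    have hex : ∃ m, u ^ 2 ^ m = 1 := ⟨i, congrArg Subtype.val hi⟩
    classical
    have hm0 : Nat.find hex ≠ 0 := fun h => hu1 (by
      have := Nat.find_spec hex
      rwa [h, pow_zero, pow_one] at this)
    refine ⟨u ^ 2 ^ (Nat.find hex - 1), ?_, Nat.find_min hex (by omega), pow_mem (show u ∈ Q ⊓ Z from ⟨huQ, huZ⟩) _⟩
    rw [← pow_mul, ← pow_succ, show Nat.find hex - 1 + 1 = Nat.find hex by omega]
    exact Nat.find_spec hex
  have hvx : v = (M.x : S ⧸ M.F.N) := by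
    rw [← hzx]
    classical
    haveI := Fintype.ofFinite (S ⧸ M.F.N)
    have hcard := IsCyclic.card_pow_eq_one_le (α := ↥Z) two_pos
    by_contra hne
    have h3 : ({1, (⟨v, hvQ.2⟩ : Z), ⟨q ^ 2, pow_mem hqZ 2⟩} : Finset Z) ⊆
        Finset.univ.filter fun z : Z => z ^ 2 = 1 := by
      intro z hz
      simp only [Finset.mem_insert, Finset.mem_singleton] at hz
      simp only [Finset.mem_filter, Finset.mem_univ, true_and]
      rcases hz with rfl | rfl | rfl
      · exact one_pow 2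
      · exact Subtype.ext hv2
      · refine Subtype.ext ?_
        show (q ^ 2) ^ 2 = 1
        rw [← pow_mul]; exact hq44
    have h4 := (Finset.card_le_card h3).trans hcard
    rw [Finset.card_insert_of_notMem ?_, Finset.card_pair ?_] at h4
    · omega
    · exact fun h => hne (congrArg Subtype.val h)
    · simp only [Finset.mem_insert, Finset.mem_singleton, not_or]
      refine ⟨fun h => hv1 (congrArg Subtype.val h).symm, fun h => ?_⟩
      have h' : q ^ 2 = 1 := (congrArg Subtype.val h).symm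
      have := orderOf_dvd_of_pow_eq_one h'
      rw [hq4] at this
      exact absurd (Nat.le_of_dvd two_pos this) (by omega)
  obtain ⟨h, hh⟩ := hvQ.1
  rw [hvx] at hh
  have hh2 : ι h ^ 2 = 1 := by
    have hmem : h ^ 2 ∈ K := by
      show ι (h ^ 2) ∈ M.F.N
      rw [map_pow, ← QuotientGroup.eq_one_iff, QuotientGroup.mk_pow]
      have : ((ι h : S) : S ⧸ M.F.N) = M.x := hh
      rw [this, ← hvx, hv2]
    rw [← map_pow, by_contra fun h1 => hF _ hmem h1 (pow_mem_frattini hH h), map_one]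
  obtain ⟨p, hpC, hpq⟩ := hqW
  have hp : ⁅M.a, p⁆ * p * p ∈ M.F.N := by
    rw [← QuotientGroup.eq_one_iff]
    show QuotientGroup.mk' M.F.N (⁅M.a, p⁆ * p * p) = 1
    rw [map_mul, map_mul, map_commutatorElement, hpq, commutatorElement_def]
    show (M.a : S ⧸ M.F.N) * q * (M.a : S ⧸ M.F.N)⁻¹ * q⁻¹ * q * q = 1
    rw [hinv]; group
  set m₁ := ⁅M.a, p⁆ * p * p with hm₁
  have hap : M.a * p * M.a⁻¹ = m₁ * p⁻¹ := by rw [hm₁, commutatorElement_def]; group
  have hp2 : (M.a * p * M.a⁻¹) ^ 2 = (p ^ 2)⁻¹ := by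
    rw [hap, (show Commute m₁ p⁻¹ from ((M.F.mem_C.1 (inv_mem hpC)) m₁ hp)).mul_pow, M.F.sq m₁ hp,
      one_mul, inv_pow]
  have hm2 : (ι h)⁻¹ * p ^ 2 ∈ M.F.N := by
    rw [← QuotientGroup.eq]
    show ((ι h : S) : S ⧸ M.F.N) = ((p ^ 2 : S) : S ⧸ M.F.N)
    rw [QuotientGroup.mk_pow, show (p : S ⧸ M.F.N) = q from hpq, hzx]
    exact hh
  have hp22 : (p ^ 2) ^ 2 = 1 := by
    rw [show p ^ 2 = ι h * ((ι h)⁻¹ * p ^ 2) by group,
      (show Commute (ι h) ((ι h)⁻¹ * p ^ 2) from ((M.F.mem_C.1 (hHC h)) _ hm2).symm).mul_pow, hh2,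
      M.F.sq _ hm2, one_mul]
  have hcomm : Commute M.a (p ^ 2) := by
    rw [conj_pow, show (p ^ 2)⁻¹ = p ^ 2 by rw [inv_eq_iff_mul_eq_one, ← pow_two, hp22]] at hp2
    exact mul_inv_eq_iff_eq_mul.1 hp2
  have hp2N := (M.mem_D_of_mem_C (pow_mem hpC 2) hcomm).2
  have hp2N' : ((p ^ 2 : S) : S ⧸ M.F.N) = 1 := (QuotientGroup.eq_one_iff _).2 hp2N
  rw [QuotientGroup.mk_pow, show (p : S ⧸ M.F.N) = q from hpq] at hp2N'
  have := orderOf_dvd_of_pow_eq_one hp2N'
  rw [hq4] at this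
  exact absurd (Nat.le_of_dvd two_pos this) (by omega)

end Meet

end CfsgLib.PGroups.Harada
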