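import Cfsg.Agent.Lib.PGroups.Harada.Corollaries

/-!
# Central products of two quaternion groups of order eight, and wreath products of order thirty-two
-/

set_option autoImplicit false
set_option linter.unusedSectionVars false
set_option linter.style.haveILetI false

namespace CfsgLib.PGroups.Harada

open Subgroup
open scoped commutatorElement

variable {S : Type*} [Group S] [Finite S]

theorem quaternion_facts :
    (∀ x y : QuaternionGroup 2, x * y * x⁻¹ * y⁻¹ = 1 ∨ x * y * x⁻¹ * y⁻¹ = QuaternionGroup.a 2) ∧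
    (∀ x : QuaternionGroup 2, x * x = 1 ∨ x * x = QuaternionGroup.a 2) ∧
    (∀ x : QuaternionGroup 2, x * QuaternionGroup.a 1 = QuaternionGroup.a 1 * x →
      x * QuaternionGroup.xa 0 = QuaternionGroup.xa 0 * x → x = 1 ∨ x = QuaternionGroup.a 2) ∧
    (∀ x : QuaternionGroup 2, x * QuaternionGroup.a 2 = QuaternionGroup.a 2 * x) ∧
    (QuaternionGroup.a 2 : QuaternionGroup 2) ≠ 1 ∧
    (QuaternionGroup.a 2 : QuaternionGroup 2) * QuaternionGroup.a 2 = 1 := by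
  refine ⟨?_, ?_, ?_, ?_, ?_, ?_⟩ <;> decide

/-- Facts of one quaternion subgroup. -/
theorem quaternion_subgroup (Q : Subgroup S) (e : Q ≃* QuaternionGroup 2) :
    ∃ z i j : S, z ∈ Q ∧ i ∈ Q ∧ j ∈ Q ∧ z ≠ 1 ∧ z ^ 2 = 1 ∧
      (∀ x ∈ Q, Commute x z) ∧
      (∀ x ∈ Q, ∀ y ∈ Q, ⁅x, y⁆ = 1 ∨ ⁅x, y⁆ = z) ∧ (∀ x ∈ Q, x ^ 2 = 1 ∨ x ^ 2 = z) ∧
      (∀ x ∈ Q, Commute x i → Commute x j → x = 1 ∨ x = z) ∧
      ∀ c : S, Commute c i → Commute c j → ∀ x ∈ Q, Commute c x := by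
  obtain ⟨hc, hs, hz, hzc, hne, hsq⟩ := quaternion_facts
  have val : ∀ {x : Q} {v : QuaternionGroup 2}, e x = v → (x : S) = (e.symm v : S) := fun {x v} h => by
    rw [← h, e.symm_apply_apply]
  refine ⟨(e.symm (QuaternionGroup.a 2) : Q), (e.symm (QuaternionGroup.a 1) : Q),
    (e.symm (QuaternionGroup.xa 0) : Q), SetLike.coe_mem _, SetLike.coe_mem _, SetLike.coe_mem _,
    fun h => hne (e.symm.injective (Subtype.ext (h.trans (by rw [map_one, OneMemClass.coe_one])))),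
    ?_, fun x hx => ?_, fun x hx y hy => ?_, fun x hx => ?_, fun x hx hxi hxj => ?_, fun c ha hb x hx => ?_⟩
  · rw [pow_two, ← Subgroup.coe_mul, ← map_mul, hsq, map_one, OneMemClass.coe_one]
  · have h := congrArg e.symm (hzc (e ⟨x, hx⟩))
    rw [map_mul, map_mul, e.symm_apply_apply] at h
    exact congrArg Subtype.val h
  · rcases hc (e ⟨x, hx⟩) (e ⟨y, hy⟩) with h | h
    · left
      have := val (x := ⁅(⟨x, hx⟩ : Q), ⟨y, hy⟩⁆) (v := 1) (by rw [map_commutatorElement, commutatorElement_def, h])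
      rwa [map_one, OneMemClass.coe_one] at this
    · right
      exact val (x := ⁅(⟨x, hx⟩ : Q), ⟨y, hy⟩⁆) (by rw [map_commutatorElement, commutatorElement_def, h])
  · rcases hs (e ⟨x, hx⟩) with h | h
    · left
      have := val (x := (⟨x, hx⟩ : Q) ^ 2) (v := 1) (by rw [map_pow, pow_two, h])
      rwa [map_one, OneMemClass.coe_one] at this
    · right
      exact val (x := (⟨x, hx⟩ : Q) ^ 2) (by rw [map_pow, pow_two, h])
  · have hi : (⟨x, hx⟩ : Q) * e.symm (QuaternionGroup.a 1) = e.symm (QuaternionGroup.a 1) * ⟨x, hx⟩ :=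
      Subtype.ext hxi
    have hj : (⟨x, hx⟩ : Q) * e.symm (QuaternionGroup.xa 0) = e.symm (QuaternionGroup.xa 0) * ⟨x, hx⟩ :=
      Subtype.ext hxj
    replace hi := congrArg e hi
    replace hj := congrArg e hj
    rw [map_mul, map_mul, e.apply_symm_apply] at hi hj
    rcases hz _ hi hj with h | h
    · left
      have := val h
      rwa [map_one, OneMemClass.coe_one] at this
    · exact Or.inr (val h)
  · have hprod : ∀ w : QuaternionGroup 2, ∃ n : Fin 4, w = QuaternionGroup.a 1 ^ (n : ℕ) ∨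
        w = QuaternionGroup.xa 0 * QuaternionGroup.a 1 ^ (n : ℕ) := by decide
    obtain ⟨n, h | h⟩ := hprod (e ⟨x, hx⟩)
    · have h' := congrArg (fun w => (e.symm w : S)) h
      simp only [e.symm_apply_apply, map_pow, SubmonoidClass.coe_pow] at h'
      rw [h']; exact ha.pow_right _
    · have h' := congrArg (fun w => (e.symm w : S)) h
      simp only [e.symm_apply_apply, map_pow, map_mul, Subgroup.coe_mul,
        SubmonoidClass.coe_pow] at h'
      rw [h']; exact hb.mul_right (ha.pow_right _)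

/-- A central product of two quaternion groups containing its centralizer. -/
theorem exists_extra (Q Q₁ Q₂ : Subgroup S) (e₁ : Q₁ ≃* QuaternionGroup 2)
    (e₂ : Q₂ ≃* QuaternionGroup 2) (hcomm : ∀ a ∈ Q₁, ∀ b ∈ Q₂, a * b = b * a) (hQ : Q₁ ⊔ Q₂ = Q)
    (hQ32 : Nat.card Q = 32) (hC : Subgroup.centralizer (Q : Set S) ≤ Q) : Nonempty (Extra S) := by
  obtain ⟨z₁, i₁, j₁, hz₁, hi₁, hj₁, hz₁1, hz₁2, hz₁c, hc₁, hs₁, hcent₁, hgen₁⟩ := quaternion_subgroup Q₁ e₁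
  obtain ⟨z₂, i₂, j₂, hz₂, hi₂, hj₂, hz₂1, hz₂2, hz₂c, hc₂, hs₂, hcent₂, hgen₂⟩ := quaternion_subgroup Q₂ e₂
  let φ : Q₁ × Q₂ →* S := MonoidHom.mk' (fun p => (p.1 : S) * (p.2 : S)) fun p q => by
    show ((p.1 : S) * q.1) * ((p.2 : S) * q.2) = (p.1 : S) * p.2 * ((q.1 : S) * q.2)
    rw [mul_assoc, ← mul_assoc (q.1 : S), hcomm _ q.1.2 _ p.2.2]
    group
  have hφ : ∀ p : Q₁ × Q₂, φ p = (p.1 : S) * (p.2 : S) := fun _ => rfl
  have hrange : φ.range = Q := by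
    rw [← hQ]
    refine le_antisymm ?_ (sup_le (fun x hx => ⟨(⟨x, hx⟩, 1), by simp [hφ]⟩)
      (fun x hx => ⟨(1, ⟨x, hx⟩), by simp [hφ]⟩))
    rintro _ ⟨p, rfl⟩
    exact mul_mem (mem_sup_left p.1.2) (mem_sup_right p.2.2)
  have hker : φ.ker ≠ ⊥ := fun h => by
    have h1 := Nat.card_congr (MonoidHom.ofInjective ((MonoidHom.ker_eq_bot_iff φ).1 h)).toEquiv
    rw [hrange, hQ32, Nat.card_prod, Nat.card_congr e₁.toEquiv, Nat.card_congr e₂.toEquiv,
      Nat.card_eq_fintype_card, QuaternionGroup.card] at h1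
    omega
  obtain ⟨⟨u, v⟩, huv, hne⟩ := (Subgroup.bot_or_exists_ne_one _).resolve_left hker
  have huv' : (u : S) * (v : S) = 1 := huv
  have hu : (u : S) = 1 ∨ (u : S) = z₁ := by
    have hu2 : (u : S) ∈ Q₂ := by rw [eq_inv_of_mul_eq_one_left huv']; exact inv_mem v.2
    exact hcent₁ u u.2 (hcomm i₁ hi₁ u hu2).symm (hcomm j₁ hj₁ u hu2).symm
  have hv : (v : S) = 1 ∨ (v : S) = z₂ := by
    have hv1 : (v : S) ∈ Q₁ := by rw [eq_inv_of_mul_eq_one_right huv']; exact inv_mem u.2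
    exact hcent₂ v v.2 (hcomm v hv1 i₂ hi₂) (hcomm v hv1 j₂ hj₂)
  have hzz : z₁ = z₂ := by
    rcases hu with hu | hu <;> rcases hv with hv | hv <;> rw [hu, hv] at huv'
    · exact absurd (Prod.ext (Subtype.ext hu) (Subtype.ext hv)) hne
    · rw [one_mul] at huv'; exact absurd huv' hz₂1
    · rw [mul_one] at huv'; exact absurd huv' hz₁1
    · rw [eq_inv_of_mul_eq_one_left huv', inv_eq_iff_mul_eq_one, ← pow_two, hz₂2]
  subst hzz
  have hQ₁ : Q₁ ≤ Q := hQ ▸ le_sup_left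
  have hQ₂ : Q₂ ≤ Q := hQ ▸ le_sup_right
  have hmem : ∀ q ∈ Q, ∃ a ∈ Q₁, ∃ b ∈ Q₂, q = a * b := by
    intro q hq
    obtain ⟨p, rfl⟩ : q ∈ φ.range := hrange.symm ▸ hq
    exact ⟨p.1, p.1.2, p.2, p.2.2, rfl⟩
  refine ⟨⟨Q, hQ32, z₁, hz₁1, hz₁2, hQ₁ hz₁, fun q hq r hr => ?_, fun q hq => ?_,
    ![i₁, j₁, i₂, j₂], fun k => ?_, fun c hc => ?_, fun k => ?_⟩⟩
  · obtain ⟨a, ha, b, hb, rfl⟩ := hmem q hq
    obtain ⟨a', ha', b', hb', rfl⟩ := hmem r hr
    have h1 : ⁅a * b, a' * b'⁆ = ⁅a, a'⁆ * ⁅b, b'⁆ := by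
      have := map_commutatorElement φ (⟨a, ha⟩, ⟨b, hb⟩) (⟨a', ha'⟩, ⟨b', hb'⟩)
      exact this.symm
    rw [h1]
    rcases hc₁ a ha a' ha' with h | h <;> rcases hc₂ b hb b' hb' with h' | h' <;> rw [h, h'] <;>
      simp [← pow_two, hz₁2]
  · obtain ⟨a, ha, b, hb, rfl⟩ := hmem q hq
    rw [(show Commute a b from hcomm a ha b hb).mul_pow]
    rcases hs₁ a ha with h | h <;> rcases hs₂ b hb with h' | h' <;> rw [h, h'] <;>
      simp [← pow_two, hz₁2]
  · fin_cases k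
    exacts [hQ₁ hi₁, hQ₁ hj₁, hQ₂ hi₂, hQ₂ hj₂]
  · have c0 : Commute c i₁ := hc 0
    have c1 : Commute c j₁ := hc 1
    have c2 : Commute c i₂ := hc 2
    have c3 : Commute c j₂ := hc 3
    obtain ⟨w, hw⟩ : ∃ w : Q, (w : S) = c := ⟨⟨c, hC (mem_centralizer_iff.2 fun q hq => by
      obtain ⟨a, ha, b, hb, rfl⟩ := hmem q hq
      exact ((hgen₁ c c0 c1 a ha).mul_right (hgen₂ c c2 c3 b hb)).symm.eq)⟩, rfl⟩
    obtain ⟨a, ha, b, hb, hab⟩ := hmem c (hw ▸ w.2)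
    have ca : ∀ y ∈ Q₁, Commute c y → Commute a y := fun y hy h => by
      have h' := h.mul_left (show Commute b y from (hcomm y hy b hb).symm).inv_left
      rwa [hab, mul_inv_cancel_right] at h'
    have cb : ∀ y ∈ Q₂, Commute c y → Commute b y := fun y hy h => by
      have h' := (show Commute a y from hcomm a ha y hy).inv_left.mul_left h
      rwa [hab, inv_mul_cancel_left] at h'
    rcases hcent₁ a ha (ca _ hi₁ c0) (ca _ hj₁ c1) with h | h <;>
      rcases hcent₂ b hb (cb _ hi₂ c2) (cb _ hj₂ c3) with h' | h' <;>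
      rw [hab, h, h'] <;> simp [← pow_two, hz₁2]
  · fin_cases k
    exacts [(hz₁c i₁ hi₁).symm, (hz₁c j₁ hj₁).symm, (hz₂c i₂ hi₂).symm, (hz₂c j₂ hj₂).symm]

end CfsgLib.PGroups.Harada
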