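import Cfsg.Agent.Lib.PGroups.Harada.Frame

/-!
# A self-centralizing subgroup of order eight can be chosen to meet `N` in at least four elements
-/

set_option autoImplicit false
set_option linter.unusedSectionVars false
set_option linter.style.haveILetI false

namespace CfsgLib.PGroups.Harada

open Subgroup
open scoped commutatorElement

/-- A self-centralizing elementary abelian subgroup of order eight. -/
structure SelfCent (S : Type*) [Group S] where
  A : Subgroup S
  comm : ∀ x ∈ A, ∀ y ∈ A, x * y = y * x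
  sq : ∀ x ∈ A, x ^ 2 = 1
  card : Nat.card A = 8
  self : ∀ x : S, (∀ y ∈ A, y * x = x * y) → x ∈ A

variable {S : Type*} [Group S] [Finite S]

/-- Iterated commutators with `w` find an element moved into `X` by `w`. -/
theorem exists_commutator_mem (hS : IsPGroup 2 S) {X R : Subgroup S} {w : S}
    (hw : ∀ r ∈ R, ⁅w, r⁆ ∈ R) (hne : ¬ R ≤ X) : ∃ r ∈ R, r ∉ X ∧ ⁅w, r⁆ ∈ X := by
  haveI : Fact (Nat.Prime 2) := ⟨Nat.prime_two⟩
  haveI := hS.isNilpotent
  obtain ⟨c, hc⟩ := Subgroup.nilpotent_iff_lowerCentralSeries.mp ‹Group.IsNilpotent S›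
  by_contra hcon
  simp only [not_exists, not_and] at hcon
  obtain ⟨r₀, hr₀R, hr₀X⟩ := SetLike.not_le_iff_exists.1 hne
  have : ∀ n : ℕ, ∃ r ∈ R, r ∉ X ∧ r ∈ (⊤ : Subgroup S).lowerCentralSeries n := by
    intro n
    induction n with
    | zero => exact ⟨r₀, hr₀R, hr₀X, by simp⟩
    | succ n ih =>
      obtain ⟨r, hrR, hrX, hrn⟩ := ih
      refine ⟨⁅w, r⁆, hw r hrR, hcon r hrR hrX, ?_⟩
      rw [← inv_mem_iff, commutatorElement_inv]
      exact commutator_mem_commutator hrn (mem_top w)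
  obtain ⟨r, -, hrX, hrc⟩ := this c
  rw [hc] at hrc
  exact hrX (Subgroup.mem_bot.1 hrc ▸ one_mem X)

namespace Eight

variable (F : Eight S) (T : SelfCent S)

theorem commute_all_of_three {e u v w : S} (hu : u ∈ T.A) (hv : v ∈ T.A) (hw : w ∈ T.A)
    (hu1 : u ≠ 1) (hv1 : v ≠ 1) (hvu : v ≠ u) (hw1 : w ≠ 1) (hwu : w ≠ u) (hwv : w ≠ v)
    (hwuv : w ≠ u * v) (cu : Commute e u) (cv : Commute e v) (cw : Commute e w) : e ∈ T.A := by
  refine T.self e fun y hy => ?_
  have hsub : ({1, u, v, w, u * v} : Set S) ⊆ ↑(T.A ⊓ centralizer ({e} : Set S)) := by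
    intro x hx
    rcases hx with rfl | rfl | rfl | rfl | rfl
    · exact one_mem _
    · exact ⟨hu, mem_centralizer_singleton_iff.2 cu.symm⟩
    · exact ⟨hv, mem_centralizer_singleton_iff.2 cv.symm⟩
    · exact ⟨hw, mem_centralizer_singleton_iff.2 cw.symm⟩
    · exact ⟨mul_mem hu hv, mem_centralizer_singleton_iff.2 (cu.mul_right cv).symm⟩
  have huv1 : u * v ≠ 1 := fun h => hvu (by
    rw [eq_inv_of_mul_eq_one_right h, inv_eq_iff_mul_eq_one, ← pow_two, T.sq u hu])
  have h5 : ({1, u, v, w, u * v} : Set S).ncard = 5 := by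
    classical
    rw [show ({1, u, v, w, u * v} : Set S) = ↑({1, u, v, w, u * v} : Finset S) by simp,
      Set.ncard_coe_finset]
    rw [Finset.card_insert_of_notMem (by simp [Ne.symm hu1, Ne.symm hv1, Ne.symm hw1, Ne.symm huv1]),
      Finset.card_insert_of_notMem (by simp [Ne.symm hvu, Ne.symm hwu, hv1]),
      Finset.card_insert_of_notMem (by simp [Ne.symm hwv, hu1]),
      Finset.card_insert_of_notMem (by simp [hwuv]), Finset.card_singleton]
  have hcard := Set.ncard_le_ncard hsub (Set.toFinite _)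
  rw [h5] at hcard
  have heq := eq_of_lt_two_mul (inf_le_left : T.A ⊓ centralizer ({e} : Set S) ≤ T.A) (k := 2)
    (by rw [T.card]; rfl) (by
      change 5 ≤ Nat.card ↥(T.A ⊓ centralizer ({e} : Set S)) at hcard
      omega)
  have hy' : y ∈ T.A ⊓ centralizer ({e} : Set S) := heq.symm ▸ hy
  exact mem_centralizer_singleton_iff.1 hy'.2

theorem exists_outside {d v : S} : ∃ w ∈ T.A, w ≠ 1 ∧ w ≠ d ∧ w ≠ v ∧ w ≠ d * v := by
  by_contra h
  simp only [not_exists, not_and, not_not] at h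
  classical
  have := card_sub_le (X := T.A) (s := ↑({1, d, v, d * v} : Finset S)) (k := 4) (fun x hx => by
    by_cases h1 : x = 1
    · simp [h1]
    by_cases h2 : x = d
    · simp [h2]
    by_cases h3 : x = v
    · simp [h3]
    simp [h x hx h1 h2 h3]) (by rw [Set.ncard_coe_finset]; exact Finset.card_le_four)
  rw [T.card] at this
  omega

/-- `e ↦ [v, e]` on `N`. -/
def disp (v : S) : ↥F.N →* ↥F.N :=
  MonoidHom.mk' (fun e => ⟨⁅v, (e : S)⁆, mul_mem (F.conj_mem v e.2) (inv_mem e.2)⟩) fun x y => by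
    apply Subtype.ext
    show ⁅v, (x : S) * (y : S)⁆ = ⁅v, (x : S)⁆ * ⁅v, (y : S)⁆
    rw [show ⁅v, (x : S) * (y : S)⁆ = ⁅v, (x : S)⁆ * ((x : S) * ⁅v, (y : S)⁆ * (x : S)⁻¹) by
      simp only [commutatorElement_def]; group,
      F.comm x x.2 ⁅v, (y : S)⁆ (mul_mem (F.conj_mem v y.2) (inv_mem y.2)), mul_inv_cancel_right]

theorem disp_coe (v : S) (e : ↥F.N) : (F.disp v e : S) = ⁅v, (e : S)⁆ := rfl

theorem card_ker_disp (v : S) :
    Nat.card (F.disp v).ker = Nat.card ↥(F.N ⊓ centralizer ({v} : Set S)) := by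
  rw [← Nat.card_congr (Subgroup.subgroupOfEquivOfLe
    (inf_le_left : F.N ⊓ centralizer ({v} : Set S) ≤ F.N)).toEquiv]
  congr! 2
  ext e
  rw [MonoidHom.mem_ker, Subgroup.mem_subgroupOf]
  refine ⟨fun h => ⟨e.2, ?_⟩, fun h => Subtype.ext ?_⟩
  · have h1 : ⁅v, (e : S)⁆ = 1 := congrArg Subtype.val h
    exact mem_centralizer_singleton_iff.2 (commutatorElement_eq_one_iff_mul_comm.1 h1).symm
  · rw [disp_coe, OneMemClass.coe_one, commutatorElement_eq_one_iff_mul_comm]
    exact (mem_centralizer_singleton_iff.1 h.2).symm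

theorem range_le_ker {v : S} (hv : v ^ 2 = 1) : (F.disp v).range ≤ (F.disp v).ker := by
  rintro _ ⟨e, rfl⟩
  rw [MonoidHom.mem_ker]
  apply Subtype.ext
  rw [disp_coe, disp_coe, OneMemClass.coe_one]
  have hve : ⁅v, (e : S)⁆ ∈ F.N := mul_mem (F.conj_mem v e.2) (inv_mem e.2)
  have h1 : v * ⁅v, (e : S)⁆ * v⁻¹ = (⁅v, (e : S)⁆)⁻¹ := by
    rw [commutatorElement_def]
    calc v * (v * e * v⁻¹ * (e : S)⁻¹) * v⁻¹
        = v ^ 2 * e * (v ^ 2)⁻¹ * (v * (e : S)⁻¹ * v⁻¹) := by rw [pow_two]; group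
      _ = (v * e * v⁻¹ * (e : S)⁻¹)⁻¹ := by rw [hv]; group
  rw [commutatorElement_def, h1, F.inv_eq hve, ← pow_two, F.sq _ hve]

theorem four_le_fixed {v : S} (hv : v ^ 2 = 1) :
    4 ≤ Nat.card ↥(F.N ⊓ centralizer ({v} : Set S)) := by
  haveI : Fact (Nat.Prime 2) := ⟨Nat.prime_two⟩
  rw [← F.card_ker_disp v]
  have h1 := (F.disp v).ker.card_mul_index
  rw [Subgroup.index_ker, F.card] at h1
  have h2 := Subgroup.card_le_of_le (F.range_le_ker hv)
  by_contra h
  rw [not_le] at h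
  have := Nat.mul_le_mul (Nat.le_of_lt_succ h) (h2.trans (Nat.le_of_lt_succ h))
  have h3 : Nat.card (F.disp v).ker ∣ 8 := ⟨_, h1.symm⟩
  interval_cases hk : Nat.card (F.disp v).ker <;> omega

theorem commutator_cases {d : S}
    (hall : ∀ e ∈ F.N, (∀ y ∈ T.A, y * e = e * y) → e = 1 ∨ e = d) {v : S} (hv : v ∈ T.A)
    (h4 : Nat.card ↥(F.N ⊓ centralizer ({v} : Set S)) = 4) :
    ∀ e ∈ F.N, ⁅v, e⁆ = 1 ∨ ⁅v, e⁆ = d := by
  intro e he
  by_cases h1 : ⁅v, e⁆ = 1
  · exact Or.inl h1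
  have hN : ⁅v, e⁆ ∈ F.N := mul_mem (F.conj_mem v he) (inv_mem he)
  refine hall _ hN fun y hy => ?_
  have hrange : Nat.card (F.disp v).range = 2 := by
    have h := (F.disp v).ker.card_mul_index
    rw [Subgroup.index_ker, F.card, F.card_ker_disp v, h4] at h
    omega
  have hconj : y * ⁅v, e⁆ * y⁻¹ = ⁅v, y * e * y⁻¹⁆ := by
    have hyv : y * v * y⁻¹ = v := by rw [T.comm y hy v hv, mul_inv_cancel_right]
    calc y * ⁅v, e⁆ * y⁻¹ = ⁅y * v * y⁻¹, y * e * y⁻¹⁆ := by
          simp only [commutatorElement_def]; group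
      _ = _ := by rw [hyv]
  by_contra hne
  have hne' : (F.disp v ⟨e, he⟩ : ↥F.N) ≠ F.disp v ⟨y * e * y⁻¹, F.conj_mem y he⟩ := fun h => by
    have h' : ⁅v, e⁆ = ⁅v, y * e * y⁻¹⁆ := congrArg Subtype.val h
    rw [← hconj, eq_mul_inv_iff_mul_eq] at h'
    exact hne h'.symm
  have := three_le_card (X := (F.disp v).range) ⟨⟨e, he⟩, rfl⟩ ⟨⟨y * e * y⁻¹, F.conj_mem y he⟩, rfl⟩
    (fun h => h1 (congrArg Subtype.val h))
    (fun h => h1 (conj_eq_one_iff.1 (hconj.trans (congrArg Subtype.val h)))) hne'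
  omega

include T in
/-- There is a self-centralizing subgroup of order eight meeting `N` in four or more elements. -/
theorem exists_selfCent_meet (hS : IsPGroup 2 S) :
    ∃ T' : SelfCent S, 4 ≤ Nat.card ↥(T'.A ⊓ F.N) := by
  by_cases hbig : 4 ≤ Nat.card ↥(T.A ⊓ F.N)
  · exact ⟨T, hbig⟩
  haveI : Fact (Nat.Prime 2) := ⟨Nat.prime_two⟩
  obtain ⟨d, P, hdN, hd1, hdc, hPn, hdP, hPN, hPc⟩ := F.exists_flag hS
  have hcd : ∀ y : S, y * d = d * y := fun y => mul_inv_eq_iff_eq_mul.1 (hdc y)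
  have hdA : d ∈ T.A := T.self d fun y _ => hcd y
  have hAN : ∀ x ∈ T.A, x ∈ F.N → x = 1 ∨ x = d := by
    intro x hx hxN
    by_contra hcon
    simp only [not_or] at hcon
    have h3 := three_le_card (X := T.A ⊓ F.N) ⟨hx, hxN⟩ ⟨hdA, hdN⟩ hcon.1 hd1 hcon.2
    obtain ⟨j, hj⟩ := card_subgroup_eq_pow hS (T.A ⊓ F.N)
    rcases Nat.lt_or_ge j 2 with h | h
    · interval_cases j <;> omega
    · have : 2 ^ 2 ≤ 2 ^ j := Nat.pow_le_pow_right two_pos h
      omega
  have hall : ∀ e ∈ F.N, (∀ y ∈ T.A, y * e = e * y) → e = 1 ∨ e = d := fun e he hc =>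
    hAN e (T.self e hc) he
  have hnC : ∀ v ∈ T.A, v ≠ 1 → v ≠ d → v ∉ F.C := by
    intro v hv hv1 hvd hvC
    obtain ⟨w, hw, hw1, hwd, hwv, hwdv⟩ := exists_outside T (d := d) (v := v)
    have h4 := F.four_le_fixed (T.sq w hw)
    have := card_sub_le (X := F.N ⊓ centralizer ({w} : Set S)) (s := {1, d}) (k := 2) (fun e he => by
      refine hall e he.1 fun y hy => ?_
      have heA : e ∈ T.A := commute_all_of_three T hdA hv hw hd1 hv1 hvd hw1 hwd hwv hwdv
        (hcd e) (F.mem_C.1 hvC e he.1) (mem_centralizer_singleton_iff.1 he.2)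
      exact T.comm y hy e heA) ((Set.ncard_insert_le _ _).trans (by rw [Set.ncard_singleton]))
    omega
  have hP4v : ∀ v ∈ T.A, v ≠ 1 → v ≠ d →
      Nat.card ↥(F.N ⊓ centralizer ({v} : Set S)) = 4 := by
    intro v hv hv1 hvd
    have h4 := F.four_le_fixed (T.sq v hv)
    have h5 : ¬ 4 < Nat.card ↥(F.N ⊓ centralizer ({v} : Set S)) := fun h =>
      hnC v hv hv1 hvd (F.mem_C_of_fixed h)
    omega
  have hcase : ∀ v ∈ T.A, ∀ e ∈ F.N, ⁅v, e⁆ = 1 ∨ ⁅v, e⁆ = d := by
    intro v hv e he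
    by_cases hv1 : v = 1
    · left; rw [hv1, commutatorElement_one_left]
    by_cases hvd : v = d
    · left; rw [hvd, commutatorElement_eq_one_iff_mul_comm]; exact (hcd e).symm
    exact F.commutator_cases T hall hv (hP4v v hv hv1 hvd) e he
  -- the main case
  suffices hmain : ∀ v w : S, v ∈ T.A → w ∈ T.A → v ≠ 1 → v ≠ d → w ≠ 1 → w ≠ d → w ≠ v →
      w ≠ d * v → P ≠ F.N ⊓ centralizer ({v} : Set S) →
      ∃ T' : SelfCent S, 4 ≤ Nat.card ↥(T'.A ⊓ F.N) by
    obtain ⟨v, hv, hv1, hvd, -, -⟩ := exists_outside T (d := d) (v := d)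
    obtain ⟨w, hw, hw1, hwd, hwv, hwdv⟩ := exists_outside T (d := d) (v := v)
    by_cases hPv : P = F.N ⊓ centralizer ({v} : Set S)
    · refine hmain w v hw hv hw1 hwd hv1 hvd (Ne.symm hwv) (fun h => hwdv ?_) fun hPw => ?_
      · rw [h, ← mul_assoc, ← pow_two, T.sq d hdA, one_mul]
      · have := card_sub_le (X := P) (s := {1, d}) (k := 2) (fun e he => hall e (hPN he) fun y hy => by
          have heA : e ∈ T.A := commute_all_of_three T hdA hv hw hd1 hv1 hvd hw1 hwd hwv hwdv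
            (hcd e) (mem_centralizer_singleton_iff.1 (show e ∈ F.N ⊓ centralizer ({v} : Set S) from hPv ▸ he).2)
            (mem_centralizer_singleton_iff.1 (show e ∈ F.N ⊓ centralizer ({w} : Set S) from hPw ▸ he).2)
          exact T.comm y hy e heA) ((Set.ncard_insert_le _ _).trans (by rw [Set.ncard_singleton]))
        omega
    · exact hmain v w hv hw hv1 hvd hw1 hwd hwv hwdv hPv
  intro v w hv hw hv1 hvd hw1 hwd hwv hwdv hPne
  set Pv := F.N ⊓ centralizer ({v} : Set S) with hPv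
  have hPv4 : Nat.card Pv = 4 := hP4v v hv hv1 hvd
  have hdPv : d ∈ Pv := ⟨hdN, mem_centralizer_singleton_iff.2 (hcd v).symm⟩
  have hvv : v * v = 1 := by rw [← pow_two, T.sq v hv]
  have hvN : v ∉ F.N := fun h => by
    rcases hAN v hv h with h | h
    exacts [hv1 h, hvd h]
  set B := Pv ⊔ zpowers v with hB
  have hcomm : ∀ p ∈ Pv, Commute p v := fun p hp => mem_centralizer_singleton_iff.1 hp.2
  have hBmem : ∀ x ∈ B, ∃ p ∈ Pv, x = p ∨ x = p * v := by
    intro x hx
    have hn : zpowers v ≤ normalizer (Pv : Set S) := zpowers_le.2 (centralizer_le_normalizer _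
      (mem_centralizer_iff.2 fun p hp => hcomm p hp))
    rw [← SetLike.mem_coe, hB, sup_comm,
      Subgroup.coe_mul_of_left_le_normalizer_right _ _ hn, Set.mem_mul] at hx
    obtain ⟨y, hy, p, hp, rfl⟩ := hx
    obtain ⟨k, rfl⟩ := mem_zpowers_iff.1 hy
    refine ⟨p, hp, ?_⟩
    rw [← ((hcomm p hp).zpow_right k).eq]
    rcases Int.even_or_odd k with ⟨j, rfl⟩ | ⟨j, rfl⟩
    · left
      rw [← two_mul, zpow_mul, zpow_ofNat, T.sq v hv, one_zpow, mul_one]
    · right
      rw [zpow_add, zpow_mul, zpow_ofNat, T.sq v hv, one_zpow, one_mul, zpow_one]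
  have hBc : Nat.card B = 8 := by
    have hset : (B : Set S) = (Pv : Set S) ∪ (fun p => p * v) '' (Pv : Set S) := by
      ext x
      refine ⟨fun hx => ?_, ?_⟩
      · obtain ⟨p, hp, rfl | rfl⟩ := hBmem x hx
        · exact Or.inl hp
        · exact Or.inr ⟨p, hp, rfl⟩
      · rintro (hx | ⟨p, hp, rfl⟩)
        · exact mem_sup_left hx
        · exact mul_mem (mem_sup_left hp) (mem_sup_right (mem_zpowers v))
    have hdisj : Disjoint (Pv : Set S) ((fun p => p * v) '' (Pv : Set S)) := by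
      rw [Set.disjoint_left]
      rintro x hx ⟨p, hp, rfl⟩
      have hp' : p ∈ F.N := (show p ∈ Pv from hp).1
      have hx' : p * v ∈ F.N := (show p * v ∈ Pv from hx).1
      exact hvN (by
        have := mul_mem (inv_mem hp') hx'
        rwa [inv_mul_cancel_left] at this)
    show (B : Set S).ncard = 8
    rw [hset, Set.ncard_union_eq hdisj (Set.toFinite _) (Set.toFinite _),
      Set.ncard_image_of_injective _ (mul_left_injective v)]
    change Nat.card Pv + Nat.card Pv = 8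
    omega
  have hBcomm : ∀ x ∈ B, ∀ y ∈ B, x * y = y * x := by
    intro x hx y hy
    obtain ⟨p, hp, rfl | rfl⟩ := hBmem x hx <;> obtain ⟨q, hq, rfl | rfl⟩ := hBmem y hy
    · exact F.comm _ hp.1 _ hq.1
    · exact Commute.mul_right (F.comm _ hp.1 _ hq.1) (hcomm _ hp)
    · exact Commute.mul_left (F.comm _ hp.1 _ hq.1) (hcomm _ hq).symm
    · exact Commute.mul_left (Commute.mul_right (F.comm _ hp.1 _ hq.1) (hcomm _ hp))
        (Commute.mul_right (hcomm _ hq).symm (Commute.refl v))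
  have hBsq : ∀ x ∈ B, x ^ 2 = 1 := by
    intro x hx
    obtain ⟨p, hp, rfl | rfl⟩ := hBmem x hx
    · exact F.sq _ hp.1
    · rw [(hcomm p hp).mul_pow, F.sq p hp.1, T.sq v hv, one_mul]
  -- the centralizer of `v` in `C(N)` is `Pv`
  have hR : ∀ r ∈ F.C, Commute r v → r ∈ Pv := by
    intro r₀ hr₀C hr₀v
    by_contra hr₀
    set R := F.C ⊓ centralizer ({v} : Set S)
    have hwv' : Commute w v := T.comm w hw v hv
    obtain ⟨r, hrR, hrX, hrw⟩ := exists_commutator_mem hS (R := R) (X := Pv) (w := w) (fun r hr => by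
      refine mul_mem ⟨(inferInstance : F.C.Normal).conj_mem r hr.1 w,
        mem_centralizer_singleton_iff.2 ?_⟩ (inv_mem hr)
      exact (hwv'.mul_left (mem_centralizer_singleton_iff.1 hr.2)).mul_left hwv'.inv_left)
      (fun h => hr₀ (h ⟨hr₀C, mem_centralizer_singleton_iff.2 hr₀v⟩))
    have hfix : ∀ x ∈ R, Commute x w → x ∈ Pv := by
      intro x hx hxw
      have hxA : x ∈ T.A := commute_all_of_three T hdA hv hw hd1 hv1 hvd hw1 hwd hwv hwdv
        (hcd x) (mem_centralizer_singleton_iff.1 hx.2) hxw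
      by_cases h1 : x = 1
      · rw [h1]; exact one_mem _
      by_cases h2 : x = d
      · rw [h2]; exact hdPv
      exact absurd hx.1 (hnC x hxA h1 h2)
    set p := ⁅w, r⁆ with hp
    have hww : w ^ 2 = 1 := T.sq w hw
    have hpw : Commute p w := by
      have h1 : w * p * w⁻¹ = p⁻¹ := by
        rw [hp, commutatorElement_def]
        calc w * (w * r * w⁻¹ * r⁻¹) * w⁻¹
            = w ^ 2 * r * (w ^ 2)⁻¹ * (w * r⁻¹ * w⁻¹) := by rw [pow_two]; group
          _ = (w * r * w⁻¹ * r⁻¹)⁻¹ := by rw [hww]; group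
      rw [F.inv_eq hrw.1, mul_inv_eq_iff_eq_mul] at h1
      exact h1.symm
    by_cases hp1 : p = 1
    · exact hrX (hfix r hrR (commutatorElement_eq_one_iff_mul_comm.1 hp1).symm)
    have hpd : p = d := (hall p hrw.1 fun y hy => by
      have hpA : p ∈ T.A := commute_all_of_three T hdA hv hw hd1 hv1 hvd hw1 hwd hwv hwdv
        (hcd p) (hcomm p hrw) hpw
      exact T.comm y hy p hpA).resolve_left hp1
    obtain ⟨e, he, hew⟩ : ∃ e ∈ Pv, ¬ Commute e w := by
      by_contra h
      simp only [not_exists, not_and, not_not] at h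
      have := card_sub_le (X := Pv) (s := {1, d}) (k := 2) (fun e he => hall e he.1 fun y hy => by
        have heA : e ∈ T.A := commute_all_of_three T hdA hv hw hd1 hv1 hvd hw1 hwd hwv hwdv
          (hcd e) (hcomm e he) (h e he)
        exact T.comm y hy e heA) ((Set.ncard_insert_le _ _).trans (by rw [Set.ncard_singleton]))
      omega
    have hwe : ⁅w, e⁆ = d := (hcase w hw e he.1).resolve_left fun h =>
      hew (commutatorElement_eq_one_iff_mul_comm.1 h).symm
    refine hrX ?_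
    have hre : r * e ∈ Pv := hfix _ (mul_mem hrR ⟨F.N_le_C he.1, he.2⟩) ?_
    · have := mul_mem hre (inv_mem he)
      rwa [mul_inv_cancel_right] at this
    · refine (commutatorElement_eq_one_iff_mul_comm.1 ?_).symm
      rw [show ⁅w, r * e⁆ = ⁅w, r⁆ * (r * ⁅w, e⁆ * r⁻¹) by simp only [commutatorElement_def]; group,
        hwe, ← hp, hpd, hdc r, ← pow_two, F.sq d hdN]
  -- the centralizer of `B`
  have hBself : ∀ x : S, (∀ y ∈ B, y * x = x * y) → x ∈ B := by
    intro r hr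
    have hrv : Commute r v := (hr v (mem_sup_right (mem_zpowers v))).symm
    have hrP : ∀ p ∈ Pv, r * p * r⁻¹ = p := fun p hp => by
      rw [← hr p (mem_sup_left hp), mul_inv_cancel_right]
    obtain ⟨e, heP, hePv⟩ : ∃ e ∈ P, e ∉ Pv := SetLike.not_le_iff_exists.1 fun h =>
      hPne (Subgroup.eq_of_le_of_card_ge h (by omega))
    have hPi : (Pv.subgroupOf F.N).index = 2 := by
      have h1 := (Pv.subgroupOf F.N).card_mul_index
      rw [Nat.card_congr (Subgroup.subgroupOfEquivOfLe (inf_le_left : Pv ≤ F.N)).toEquiv, hPv4,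
        F.card] at h1
      omega
    have hp : r * e * r⁻¹ * e ∈ Pv := by
      have h1 : (⟨r * e * r⁻¹, F.conj_mem r (hPN heP)⟩ * ⟨e, hPN heP⟩ : F.N) ∈ Pv.subgroupOf F.N := by
        rw [Subgroup.mul_mem_iff_of_index_two hPi, Subgroup.mem_subgroupOf, Subgroup.mem_subgroupOf]
        refine iff_of_false (fun h => hePv ?_) hePv
        have h3 : e = r * e * r⁻¹ := mul_left_cancel (mul_right_cancel (hrP _ h).symm)
        exact h3.symm ▸ h
      exact h1
    have hpd : r * e * r⁻¹ * e = 1 ∨ r * e * r⁻¹ * e = d := by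
      by_contra hcon
      simp only [not_or] at hcon
      have h3 := three_le_card (X := P ⊓ Pv) ⟨mul_mem (hPn.conj_mem e heP r) heP, hp⟩ ⟨hdP, hdPv⟩
        hcon.1 hd1 hcon.2
      have hle : P ⊓ Pv = Pv := eq_of_lt_two_mul (inf_le_right : P ⊓ Pv ≤ Pv) (k := 1)
        (by rw [hPv4]; rfl) (by omega)
      exact hePv ((Subgroup.eq_of_le_of_card_ge (hle ▸ inf_le_left : Pv ≤ P) (by omega)).symm ▸ heP)
    have hee : e * e = 1 := by rw [← pow_two, F.sq e (hPN heP)]
    have hfin : ∀ r' : S, (∀ p ∈ Pv, r' * p * r'⁻¹ = p) → Commute r' v → r' * e * r'⁻¹ = e →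
        r' ∈ Pv := by
      intro r' h1 h2 h3
      refine hR r' (F.mem_C_of_fixed ?_) h2
      have hlt : Pv < F.N ⊓ centralizer ({r'} : Set S) := by
        refine lt_of_le_of_ne (fun p hp => ⟨hp.1, mem_centralizer_singleton_iff.2 ?_⟩) fun he =>
          hePv (he ▸ ⟨hPN heP, mem_centralizer_singleton_iff.2 ?_⟩)
        · conv_lhs => rw [← h1 p hp]
          rw [inv_mul_cancel_right]
        · conv_lhs => rw [← h3]
          rw [inv_mul_cancel_right]
      have := Set.ncard_lt_ncard (SetLike.coe_ssubset_coe.2 hlt) (Set.toFinite _)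
      change Nat.card Pv < Nat.card ↥(F.N ⊓ centralizer ({r'} : Set S)) at this
      omega
    rcases hpd with h | h
    · refine mem_sup_left (hfin r hrP hrv ?_)
      exact (eq_inv_of_mul_eq_one_left h).trans (inv_eq_of_mul_eq_one_right hee)
    · have hre : r * e * r⁻¹ = d * e := by
        rw [← h, mul_assoc _ e e, hee, mul_one]
      have hve : v * e * v⁻¹ = d * e := by
        have h1 : ⁅v, e⁆ = d := (hcase v hv e (hPN heP)).resolve_left fun h' =>
          hePv ⟨hPN heP, mem_centralizer_singleton_iff.2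
            (commutatorElement_eq_one_iff_mul_comm.1 h').symm⟩
        rw [← h1, commutatorElement_def, inv_mul_cancel_right]
      have hrv' : r * v ∈ Pv := by
        refine hfin _ (fun p hp' => ?_) (hrv.mul_left (Commute.refl v)) ?_
        · rw [show r * v * p * (r * v)⁻¹ = r * (v * p * v⁻¹) * r⁻¹ by group, ← (hcomm p hp').eq,
            mul_inv_cancel_right, hrP p hp']
        · rw [show r * v * e * (r * v)⁻¹ = r * (v * e * v⁻¹) * r⁻¹ by group, hve, ← conj_mul, hdc r,
            hre, ← mul_assoc, ← pow_two, F.sq d hdN, one_mul]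
      have hrB := mul_mem (mem_sup_left hrv' : r * v ∈ B)
        (mem_sup_right (mem_zpowers v) : v ∈ B)
      rwa [mul_assoc, hvv, mul_one] at hrB
  refine ⟨⟨B, hBcomm, hBsq, hBc, hBself⟩, ?_⟩
  rw [← hPv4]
  exact Subgroup.card_le_of_le (le_inf le_sup_left inf_le_left)

end Eight

end CfsgLib.PGroups.Harada
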